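import Groth.Agent.RingDesc.Rho

/-!
# Coassociativity of the coaction
-/

set_option autoImplicit false
set_option backward.isDefEq.respectTransparency false
set_option backward.isDefEq.respectTransparency.types false

universe u

open CategoryTheory Opposite TensorProduct

namespace Groth.Agent.RingDesc

open ModuleCat

variable {R₀ S₀ : CommRingCat.{u}} [Algebra R₀ S₀]
  (D : Desc.ringModPF.{u}.DescentData (fun _ : PUnit.{u + 1} => (CommRingCat.ofHom (algebraMap R₀ S₀)).op))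

set_option quotPrecheck false

local notation "φ" => CommRingCat.ofHom (algebraMap R₀ S₀)
local notation "N" => (obj (CommRingCat.ofHom (algebraMap R₀ S₀)) D)

/-- `S ⊗ S ⊗ S`. -/
noncomputable abbrev U₃ : CommRingCat.{u} := CommRingCat.of (S₀ ⊗[R₀] (S₀ ⊗[R₀] S₀))

local notation "V" => U₃ (R₀ := R₀) (S₀ := S₀)

/-- The three inclusions. -/
noncomputable abbrev j₀ : S₀ ⟶ V := CommRingCat.ofHom Algebra.TensorProduct.includeLeftRingHom

/-- The middle inclusion. -/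
noncomputable abbrev j₁ : S₀ ⟶ V :=
  i₁ ≫ CommRingCat.ofHom (Algebra.TensorProduct.includeRight (R := R₀) (A := S₀) (B := S₀ ⊗[R₀] S₀)).toRingHom

/-- The last inclusion. -/
noncomputable abbrev j₂ : S₀ ⟶ V :=
  i₂ ≫ CommRingCat.ofHom (Algebra.TensorProduct.includeRight (R := R₀) (A := S₀) (B := S₀ ⊗[R₀] S₀)).toRingHom

theorem j_cond₀₁ : φ ≫ j₀ = φ ≫ (j₁ : S₀ ⟶ V) := by
  ext r
  show (algebraMap R₀ S₀ r) ⊗ₜ[R₀] (1 : S₀ ⊗[R₀] S₀) = (1 : S₀) ⊗ₜ[R₀] ((algebraMap R₀ S₀ r) ⊗ₜ[R₀] (1 : S₀))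
  rw [Algebra.algebraMap_eq_smul_one, TensorProduct.smul_tmul, Algebra.TensorProduct.one_def, TensorProduct.smul_tmul']

theorem j_cond₁₂ : φ ≫ j₁ = φ ≫ (j₂ : S₀ ⟶ V) := by
  rw [← Category.assoc, i_cond, Category.assoc]

/-- `V ⊗ N → S ⊗ (S ⊗ N)`. -/
noncomputable def kappa₃ : (extendScalars (j₂ (R₀ := R₀) (S₀ := S₀)).hom).obj N →+ S₀ ⊗[R₀] (S₀ ⊗[R₀] N) :=
  letI := (j₂ (R₀ := R₀) (S₀ := S₀)).hom.toAlgebra
  TensorProduct.liftAddHom
    (AddMonoidHom.mk' (fun v : V => AddMonoidHom.mk'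
        (fun n : N => TensorProduct.map (LinearMap.id : S₀ →ₗ[R₀] S₀)
          (TensorProduct.map (LinearMap.id : S₀ →ₗ[R₀] S₀) ((LinearMap.toSpanSingleton S₀ N n).restrictScalars R₀)) v)
      (fun n n' => by
        rw [LinearMap.toSpanSingleton_add, LinearMap.restrictScalars_add, TensorProduct.map_add_right,
          TensorProduct.map_add_right, LinearMap.add_apply]))
      fun u u' => by ext n; simp)
    fun c v n => by
      simp only [AddMonoidHom.mk'_apply]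
      induction v using TensorProduct.induction_on with
      | zero => simp
      | tmul s w =>
        induction w using TensorProduct.induction_on with
        | zero => simp
        | tmul s' t =>
          show TensorProduct.map _ _ (((1 : S₀) ⊗ₜ[R₀] ((1 : S₀) ⊗ₜ[R₀] c)) * (s ⊗ₜ[R₀] (s' ⊗ₜ[R₀] t))) = _
          simp [Algebra.TensorProduct.tmul_mul_tmul, mul_smul, smul_comm c t]
        | add x y hx hy => rw [TensorProduct.tmul_add, smul_add, map_add, map_add, hx, hy]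
      | add x y hx hy => rw [smul_add, map_add, map_add, hx, hy]

theorem kappa₃_gen (s s' t : S₀) (n : N) :
    kappa₃ D ((s ⊗ₜ[R₀] (s' ⊗ₜ[R₀] t) : V) • one j₂ N n) = s ⊗ₜ (s' ⊗ₜ (t • n)) :=
  (congrArg (kappa₃ D) (tmul_eq (D := D) (j₂ (R₀ := R₀) (S₀ := S₀)) _ n).symm).trans rfl

theorem kappa₃_theta (s : S₀) (y : S₀ ⊗[R₀] N) :
    kappa₃ D ((j₀ (R₀ := R₀) (S₀ := S₀)).hom s • theta D j₁ j₂ j_cond₁₂ y) = s ⊗ₜ y := by
  induction y using TensorProduct.induction_on with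
  | zero => rw [map_zero, TensorProduct.tmul_zero]; erw [smul_zero]; exact map_zero _
  | tmul s' m =>
    rw [theta_tmul, smul_smul]
    show kappa₃ D (((s ⊗ₜ[R₀] (1 : S₀ ⊗[R₀] S₀)) * ((1 : S₀) ⊗ₜ[R₀] (s' ⊗ₜ[R₀] (1 : S₀))) : V) • _) = _
    rw [Algebra.TensorProduct.tmul_mul_tmul, mul_one, one_mul, kappa₃_gen, one_smul]
  | add a b ha hb => rw [map_add, smul_add, map_add, TensorProduct.tmul_add, ha, hb]

/-- `n ↦ 1 ⊗ n`. -/
noncomputable def eta : N →ₗ[R₀] S₀ ⊗[R₀] N := TensorProduct.mk R₀ S₀ N 1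

theorem coassoc (n : N) :
    ((rho D).restrictScalars R₀).lTensor S₀ (rho D n) = (eta D).lTensor S₀ (rho D n) := by
  have h := congrArg (fun F => kappa₃ D (F (one j₀ N n)))
    (glue_comp φ D (φ ≫ j₀) j₀ j₁ j₂ rfl j_cond₀₁.symm (j_cond₀₁.trans j_cond₁₂).symm)
  simp only [ModuleCat.comp_apply] at h
  rw [glue_one φ D j₀ j₁ (φ ≫ j₀) rfl j_cond₀₁.symm, glue_one φ D j₀ j₂ (φ ≫ j₀) rfl (j_cond₀₁.trans j_cond₁₂).symm,
    P_eq, P_eq] at h
  have e1 : ∀ y, kappa₃ D (glue φ D (φ ≫ j₀) j₁ j₂ j_cond₀₁.symm (j_cond₀₁.trans j_cond₁₂).symm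
      (theta D j₀ j₁ j_cond₀₁ y)) = ((rho D).restrictScalars R₀).lTensor S₀ y := by
    intro y
    induction y using TensorProduct.induction_on with
    | zero => simp only [map_zero]
    | tmul s m =>
      rw [theta_tmul, map_smul, glue_one φ D j₁ j₂ (φ ≫ j₀) j_cond₀₁.symm (j_cond₀₁.trans j_cond₁₂).symm, P_eq,
        kappa₃_theta]
      rfl
    | add a b ha hb => rw [map_add, map_add, map_add, map_add, ha, hb]
  have e2 : ∀ y, kappa₃ D (theta D j₀ j₂ (j_cond₀₁.trans j_cond₁₂) y) = (eta D).lTensor S₀ y := by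
    intro y
    induction y using TensorProduct.induction_on with
    | zero => simp only [map_zero]
    | tmul s m =>
      rw [theta_tmul]
      show kappa₃ D (((s ⊗ₜ[R₀] ((1 : S₀) ⊗ₜ[R₀] (1 : S₀))) : V) • _) = _
      rw [kappa₃_gen, one_smul]
      rfl
    | add a b ha hb => rw [map_add, map_add, map_add, ha, hb]
  rw [← e1, ← e2]
  exact h

theorem theta_id_rho (n : N) :
    theta D (𝟙 S₀) (𝟙 S₀) rfl (rho D n) = one (𝟙 S₀) N n := by
  rw [← P_eq, P_self]

/-- `s ⊗ n ↦ s • n`. -/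
noncomputable def mul : S₀ ⊗[R₀] N →ₗ[S₀] N := (LinearMap.id : N →ₗ[R₀] N).liftBaseChange S₀

/-- `t ⊗ n ↦ t • n`. -/
noncomputable def act : (extendScalars (𝟙 S₀ : S₀ ⟶ S₀).hom).obj N →+ N :=
  letI := (𝟙 S₀ : S₀ ⟶ S₀).hom.toAlgebra
  TensorProduct.liftAddHom
    (AddMonoidHom.mk' (fun t : S₀ => AddMonoidHom.mk' (fun n : N => t • n) (fun n n' => smul_add t n n'))
      fun (t t' : S₀) => AddMonoidHom.ext fun n : N => add_smul t t' n)
    fun (c t : S₀) (n : N) => show (c * t : S₀) • n = (t : S₀) • (c • n) by rw [mul_comm, mul_smul]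

theorem mul_rho (n : N) : mul D (rho D n) = n := by
  have hg : ∀ (t : S₀) (m : N), act D (t • one (𝟙 S₀) N m) = t • m := fun t m =>
    (congrArg (act D) (tmul_eq (D := D) (𝟙 S₀) t m).symm).trans rfl
  have e : ∀ y : S₀ ⊗[R₀] N, act D (theta D (𝟙 S₀) (𝟙 S₀) rfl y) = mul D y := by
    intro y
    induction y using TensorProduct.induction_on with
    | zero => simp only [map_zero]
    | tmul s m => rw [theta_tmul, hg, mul, LinearMap.liftBaseChange_tmul, LinearMap.id_apply]; rfl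
    | add a b ha hb => rw [map_add, map_add, map_add, ha, hb]
  have h1 := hg 1 n
  rw [one_smul, one_smul] at h1
  rw [← e, theta_id_rho, h1]

end Groth.Agent.RingDesc
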