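import Groth.Prelude.Def_Desc
import Mathlib.Algebra.Category.ModuleCat.ChangeOfRings

/-!
# Descent data for modules along a ring map, on elements
-/

set_option autoImplicit false
set_option backward.isDefEq.respectTransparency false
set_option backward.isDefEq.respectTransparency.types false

universe u

open CategoryTheory Opposite TensorProduct

namespace Groth.Agent.RingDesc

open ModuleCat

/-- The structure element `1 ⊗ m`. -/
noncomputable def one {A B : CommRingCat.{u}} (f : A ⟶ B) (M : ModuleCat.{u} A) (m : M) :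
    (extendScalars f.hom).obj M :=
  letI := f.hom.toAlgebra
  ((1 : B) ⊗ₜ[A] m : B ⊗[A] M)

theorem one_add {A B : CommRingCat.{u}} (f : A ⟶ B) (M : ModuleCat.{u} A) (m m' : M) :
    one f M (m + m') = one f M m + one f M m' :=
  letI := f.hom.toAlgebra
  TensorProduct.tmul_add (1 : B) m m'

theorem one_smul' {A B : CommRingCat.{u}} (f : A ⟶ B) (M : ModuleCat.{u} A) (c : A) (m : M) :
    one f M (c • m) = (f.hom c) • one f M m := by
  letI := f.hom.toAlgebra
  show ((1 : B) ⊗ₜ[A] (c • m) : B ⊗[A] M) = _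
  erw [TensorProduct.tmul_smul, ExtendScalars.smul_tmul]

theorem one_zero {A B : CommRingCat.{u}} (f : A ⟶ B) (M : ModuleCat.{u} A) : one f M 0 = 0 :=
  letI := f.hom.toAlgebra
  TensorProduct.tmul_zero _ (1 : B)

/-- Morphisms out of an extension of scalars are determined on `1 ⊗ m`. -/
theorem ext_one {A B : CommRingCat.{u}} (f : A ⟶ B) {M : ModuleCat.{u} A} {N : ModuleCat.{u} B}
    {α β : (extendScalars f.hom).obj M ⟶ N} (h : ∀ m, α (one f M m) = β (one f M m)) : α = β :=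
  ExtendScalars.hom_ext h

theorem map_one' {A B : CommRingCat.{u}} (f : A ⟶ B) {M M' : ModuleCat.{u} A} (α : M ⟶ M') (m : M) :
    (extendScalars f.hom).map α (one f M m) = one f M' (α m) := rfl

/-- The comparison, typed. -/
noncomputable def cmp {A B C : CommRingCat.{u}} (f : A ⟶ B) (g : B ⟶ C) (fg : A ⟶ C)
    (hh : f.op.op.toLoc ≫ g.op.op.toLoc = fg.op.op.toLoc) (M : ModuleCat.{u} A) :
    (extendScalars fg.hom).obj M ≅ (extendScalars g.hom).obj ((extendScalars f.hom).obj M) :=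
  (Cat.Hom.toNatIso (Desc.ringModPF.{u}.mapComp' f.op.op.toLoc g.op.op.toLoc fg.op.op.toLoc hh)).app M

theorem comp_hom_one {A B C : CommRingCat.{u}} (f : A ⟶ B) (g : B ⟶ C) (fg : A ⟶ C) (h : f ≫ g = fg)
    (hh : f.op.op.toLoc ≫ g.op.op.toLoc = fg.op.op.toLoc) (M : ModuleCat.{u} A) (m : M) :
    (cmp f g fg hh M).hom (one fg M m) = one g _ (one f M m) := by
  subst h
  have e : Desc.ringModPF.{u}.mapComp' f.op.op.toLoc g.op.op.toLoc (f ≫ g).op.op.toLoc hh =
      Desc.ringModPF.{u}.mapComp f.op.op.toLoc g.op.op.toLoc := Pseudofunctor.mapComp'_eq_mapComp _ _ _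
  rw [cmp, e]
  exact extendScalarsComp_hom_app_one_tmul f.hom g.hom M m

theorem comp_inv_one {A B C : CommRingCat.{u}} (f : A ⟶ B) (g : B ⟶ C) (fg : A ⟶ C) (h : f ≫ g = fg)
    (hh : f.op.op.toLoc ≫ g.op.op.toLoc = fg.op.op.toLoc) (M : ModuleCat.{u} A) (m : M) :
    (cmp f g fg hh M).inv (one g _ (one f M m)) = one fg M m := by
  rw [← comp_hom_one f g fg h hh M m, ← ModuleCat.comp_apply, Iso.hom_inv_id]
  rfl

variable {R₀ S₀ : CommRingCat.{u}} (φ : R₀ ⟶ S₀) (D : Desc.ringModPF.{u}.DescentData (fun _ : PUnit.{u + 1} => φ.op))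

/-- The underlying module. -/
abbrev obj : ModuleCat.{u} S₀ := D.obj PUnit.unit

/-- The gluing, typed. -/
noncomputable def glue {T : CommRingCat.{u}} (q : R₀ ⟶ T) (a b : S₀ ⟶ T) (h₁ : φ ≫ a = q) (h₂ : φ ≫ b = q) :
    (extendScalars a.hom).obj (obj φ D) ⟶ (extendScalars b.hom).obj (obj φ D) :=
  D.hom q.op (i₁ := PUnit.unit) (i₂ := PUnit.unit) a.op b.op (congrArg Quiver.Hom.op h₁) (congrArg Quiver.Hom.op h₂)

theorem glue_self {T : CommRingCat.{u}} (q : R₀ ⟶ T) (a : S₀ ⟶ T) (h₁ : φ ≫ a = q) :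
    glue φ D q a a h₁ h₁ = 𝟙 _ :=
  D.hom_self q.op a.op (congrArg Quiver.Hom.op h₁)

theorem glue_comp {T : CommRingCat.{u}} (q : R₀ ⟶ T) (a b c : S₀ ⟶ T) (h₁ : φ ≫ a = q) (h₂ : φ ≫ b = q)
    (h₃ : φ ≫ c = q) : glue φ D q a b h₁ h₂ ≫ glue φ D q b c h₂ h₃ = glue φ D q a c h₁ h₃ :=
  D.hom_comp q.op a.op b.op c.op (congrArg Quiver.Hom.op h₁) (congrArg Quiver.Hom.op h₂) (congrArg Quiver.Hom.op h₃)

/-- The gluing on `1 ⊗ n`. -/
noncomputable def P {T : CommRingCat.{u}} (a b : S₀ ⟶ T) (h : φ ≫ a = φ ≫ b) (n : obj φ D) :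
    (extendScalars b.hom).obj (obj φ D) :=
  glue φ D (φ ≫ a) a b rfl h.symm (one a (obj φ D) n)

theorem glue_one {T : CommRingCat.{u}} (a b : S₀ ⟶ T) (q : R₀ ⟶ T) (h₁ : φ ≫ a = q) (h₂ : φ ≫ b = q) (n : obj φ D) :
    glue φ D q a b h₁ h₂ (one a (obj φ D) n) = P φ D a b (h₁.trans h₂.symm) n := by
  subst h₁; rfl

theorem P_add {T : CommRingCat.{u}} (a b : S₀ ⟶ T) (h : φ ≫ a = φ ≫ b) (n n' : obj φ D) :
    P φ D a b h (n + n') = P φ D a b h n + P φ D a b h n' := by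
  rw [P, one_add]; exact map_add _ _ _

theorem P_smul {T : CommRingCat.{u}} (a b : S₀ ⟶ T) (h : φ ≫ a = φ ≫ b) (s : S₀) (n : obj φ D) :
    P φ D a b h (s • n) = a.hom s • P φ D a b h n := by
  rw [P, one_smul']; exact map_smul _ _ _

theorem P_self {T : CommRingCat.{u}} (a : S₀ ⟶ T) (h : φ ≫ a = φ ≫ a) (n : obj φ D) :
    P φ D a a h n = one a (obj φ D) n := by
  rw [P, glue_self]; rfl

/-- Transport of scalars. -/
noncomputable def push {T T' : CommRingCat.{u}} (b : S₀ ⟶ T) (g : T ⟶ T') (x : (extendScalars b.hom).obj (obj φ D)) :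
    (extendScalars (b ≫ g).hom).obj (obj φ D) :=
  (cmp b g (b ≫ g) (by rfl) (obj φ D)).inv (one g _ x)

theorem push_add {T T' : CommRingCat.{u}} (b : S₀ ⟶ T) (g : T ⟶ T') (x y : (extendScalars b.hom).obj (obj φ D)) :
    push φ D b g (x + y) = push φ D b g x + push φ D b g y := by
  rw [push, one_add]; exact map_add _ _ _

theorem push_smul {T T' : CommRingCat.{u}} (b : S₀ ⟶ T) (g : T ⟶ T') (t : T) (x : (extendScalars b.hom).obj (obj φ D)) :
    push φ D b g (t • x) = g.hom t • push φ D b g x := by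
  rw [push, one_smul']; exact map_smul _ _ _

theorem push_one {T T' : CommRingCat.{u}} (b : S₀ ⟶ T) (g : T ⟶ T') (n : obj φ D) :
    push φ D b g (one b (obj φ D) n) = one (b ≫ g) (obj φ D) n :=
  comp_inv_one b g (b ≫ g) rfl _ _ _

theorem P_natural {T T' : CommRingCat.{u}} (a b : S₀ ⟶ T) (h : φ ≫ a = φ ≫ b) (g : T ⟶ T') (n : obj φ D) :
    P φ D (a ≫ g) (b ≫ g) (by rw [← Category.assoc, h, Category.assoc]) n = push φ D b g (P φ D a b h n) := by
  have e : (cmp a g (a ≫ g) (by rfl) (obj φ D)).hom ≫ (extendScalars g.hom).map (glue φ D (φ ≫ a) a b rfl h.symm) ≫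
      (cmp b g (b ≫ g) (by rfl) (obj φ D)).inv = glue φ D (φ ≫ a ≫ g) (a ≫ g) (b ≫ g) rfl
        (by rw [← Category.assoc, ← h, Category.assoc]) :=
    D.pullHom_hom g.op (φ ≫ a).op (φ ≫ a ≫ g).op (by rw [← op_comp, Category.assoc])
      (i₁ := PUnit.unit) (i₂ := PUnit.unit) a.op b.op rfl (congrArg Quiver.Hom.op h.symm) (a ≫ g).op (b ≫ g).op rfl rfl
  rw [P, ← e, ModuleCat.comp_apply, ModuleCat.comp_apply, comp_hom_one a g (a ≫ g) rfl]
  rfl

end Groth.Agent.RingDesc
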