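import Mathlib.Algebra.Module.CharacterModule
import Mathlib.LinearAlgebra.TensorProduct.Tower
import Mathlib.RingTheory.TensorProduct.Maps
import Mathlib.LinearAlgebra.TensorProduct.RightExactness

/-!
# Universally injective ring maps: retractions on character modules
-/

set_option autoImplicit false

universe u

open TensorProduct

namespace Groth.Agent.RingDesc

variable {R S : Type u} [CommRing R] [CommRing S] [Algebra R S]

variable (S) in
/-- `m ↦ 1 ⊗ m`. -/
noncomputable abbrev unit (M : Type u) [AddCommGroup M] [Module R M] : M →ₗ[R] S ⊗[R] M := TensorProduct.mk R S M 1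

/-- A section of the dual of `R → S`. -/
def IsSection (σ : CharacterModule R →ₗ[R] CharacterModule S) : Prop :=
  ∀ χ r, σ χ (algebraMap R S r) = χ r

theorem exists_isSection
    (h : ∀ (P : Type u) [AddCommGroup P] [Module R P], Function.Injective (LinearMap.lTensor P (Algebra.linearMap R S))) :
    ∃ σ : CharacterModule R →ₗ[R] CharacterModule S, IsSection σ := by
  obtain ⟨χ', hχ'⟩ := CharacterModule.dual_surjective_of_injective _ (h (CharacterModule R))
    (CharacterModule.uncurry (LinearMap.id : CharacterModule R →ₗ[R] CharacterModule R))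
  refine ⟨CharacterModule.curry χ', fun χ r => ?_⟩
  exact congr($hχ' (χ ⊗ₜ[R] r))

theorem unit_injective
    (h : ∀ (P : Type u) [AddCommGroup P] [Module R P], Function.Injective (LinearMap.lTensor P (Algebra.linearMap R S)))
    (M : Type u) [AddCommGroup M] [Module R M] : Function.Injective (unit (R := R) S M) := by
  intro x y hxy
  have h1 : ∀ z : M, (Algebra.linearMap R S).lTensor M (z ⊗ₜ[R] (1 : R)) = TensorProduct.comm R S M (unit (R := R) S M z) := by
    intro z; simp [unit]
  have := h M ((h1 x).trans ((congrArg _ hxy).trans (h1 y).symm))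
  simpa using congrArg (TensorProduct.rid R M) this

theorem exists_of_unit_eq
    (h : ∀ (P : Type u) [AddCommGroup P] [Module R P], Function.Injective (LinearMap.lTensor P (Algebra.linearMap R S)))
    (M : Type u) [AddCommGroup M] [Module R M] (y : S ⊗[R] M)
    (hy : (unit (R := R) S M).lTensor S y = (1 : S) ⊗ₜ[R] y) : ∃ m : M, (1 : S) ⊗ₜ[R] m = y := by
  let q := (LinearMap.range (unit (R := R) S M)).mkQ
  have h0 : q.lTensor S ((1 : S) ⊗ₜ[R] y) = 0 := by
    rw [← hy, ← LinearMap.comp_apply, ← LinearMap.lTensor_comp, LinearMap.range_mkQ_comp, LinearMap.lTensor_zero,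
      LinearMap.zero_apply]
  have h1 : q y = 0 := unit_injective h _ (by rw [map_zero, ← h0]; rfl)
  obtain ⟨m, hm⟩ := (Submodule.Quotient.mk_eq_zero _).1 h1
  exact ⟨m, hm⟩

variable (σ : CharacterModule R →ₗ[R] CharacterModule S)

/-- The natural retraction. -/
noncomputable def retr (M : Type u) [AddCommGroup M] [Module R M] :
    CharacterModule M →ₗ[R] CharacterModule (S ⊗[R] M) :=
  let L : CharacterModule M →ₗ[R] (M →ₗ[R] CharacterModule S) :=
    LinearMap.mk₂ R (fun χ m => σ (CharacterModule.dual (LinearMap.toSpanSingleton R M m) χ))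
      (fun χ χ' m => by rw [map_add, map_add])
      (fun c χ m => by rw [map_smul, map_smul])
      (fun χ m m' => by
        rw [← map_add]
        refine congrArg σ (CharacterModule.ext _ fun r => ?_)
        simp only [CharacterModule.dual_apply]
        show χ (r • (m + m')) = χ (r • m) + χ (r • m')
        rw [smul_add, map_add])
      (fun c χ m => by
        rw [← map_smul]
        refine congrArg σ (CharacterModule.ext _ fun r => ?_)
        show χ (r • c • m) = χ ((c • r) • m)
        rw [smul_eq_mul, mul_comm, mul_smul])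
  (CharacterModule.dual (TensorProduct.comm R S M).toLinearMap).comp (CharacterModule.uncurry.comp L)

variable {σ}

theorem retr_tmul {M : Type u} [AddCommGroup M] [Module R M] (χ : CharacterModule M) (s : S) (m : M) :
    retr σ M χ (s ⊗ₜ[R] m) = σ (CharacterModule.dual (LinearMap.toSpanSingleton R M m) χ) s := rfl

theorem retr_unit (hσ : IsSection σ) {M : Type u} [AddCommGroup M] [Module R M] (χ : CharacterModule M) (m : M) :
    retr σ M χ ((1 : S) ⊗ₜ[R] m) = χ m := by
  rw [retr_tmul, ← map_one (algebraMap R S), hσ]
  show χ ((1 : R) • m) = χ m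
  rw [one_smul]

theorem char_ext {M : Type u} [AddCommGroup M] [Module R M] {χ χ' : CharacterModule (S ⊗[R] M)}
    (h : ∀ s m, χ (s ⊗ₜ[R] m) = χ' (s ⊗ₜ[R] m)) : χ = χ' :=
  CharacterModule.ext _ fun x => x.induction_on (by rw [map_zero, map_zero]) h fun a b ha hb => by
    rw [map_add, map_add, ha, hb]

theorem retr_natural {M M' : Type u} [AddCommGroup M] [Module R M] [AddCommGroup M'] [Module R M'] (f : M →ₗ[R] M')
    (χ : CharacterModule M') :
    retr σ M (CharacterModule.dual f χ) = CharacterModule.dual (f.lTensor S) (retr σ M' χ) := by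
  refine char_ext fun s m => ?_
  show _ = retr σ M' χ (s ⊗ₜ[R] f m)
  rw [retr_tmul, retr_tmul]
  refine congrArg (fun c => σ c s) (CharacterModule.ext _ fun r => ?_)
  show χ (f (r • m)) = χ (r • f m)
  rw [map_smul]

/-- The split fork: kernel and exactness survive `S ⊗ -`. -/
theorem fork (hσ : IsSection σ) (N : Type u) [AddCommGroup N] [Module R N] (ρ : N →ₗ[R] S ⊗[R] N)
    (hco : ∀ n, ρ.lTensor S (ρ n) = (unit (R := R) S N).lTensor S (ρ n)) :
    Function.Injective ((LinearMap.ker (ρ - unit (R := R) S N)).subtype.lTensor S) ∧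
      ∀ w : S ⊗[R] N, (ρ - unit (R := R) S N).lTensor S w = 0 →
        w ∈ LinearMap.range ((LinearMap.ker (ρ - unit (R := R) S N)).subtype.lTensor S) := by
  set d := ρ - unit (R := R) S N with hd
  set ι := (LinearMap.ker d).subtype with hι
  let ε : CharacterModule N →ₗ[R] CharacterModule N := (CharacterModule.dual ρ).comp (retr σ N)
  have hεd : ∀ ψ, ε (CharacterModule.dual d ψ) = 0 := by
    intro ψ
    refine CharacterModule.ext _ fun n => ?_
    show retr σ N (CharacterModule.dual d ψ) (ρ n) = 0
    rw [retr_natural]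
    show retr σ (S ⊗[R] N) ψ (d.lTensor S (ρ n)) = 0
    rw [hd, LinearMap.lTensor_sub, LinearMap.sub_apply, hco, sub_self, map_zero]
  have hεK : ∀ χ (x : LinearMap.ker d), ε χ x.1 = χ x.1 := by
    intro χ x
    show retr σ N χ (ρ x.1) = _
    rw [show ρ x.1 = (1 : S) ⊗ₜ[R] x.1 from sub_eq_zero.1 x.2, retr_unit hσ]
  have hfactor : ∀ χ, CharacterModule.dual ι χ = 0 → ∃ ψ, CharacterModule.dual d ψ = χ := by
    intro χ hχ
    let q := (LinearMap.ker d).mkQ
    have hker : AddMonoidHom.ker (LinearMap.toAddMonoidHom q) ≤ AddMonoidHom.ker χ := by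
      intro x hx
      exact congr($hχ ⟨x, (Submodule.Quotient.mk_eq_zero _).1 hx⟩)
    let χq : CharacterModule (N ⧸ LinearMap.ker d) :=
      AddMonoidHom.liftOfSurjective (LinearMap.toAddMonoidHom q)
        (Submodule.mkQ_surjective _) ⟨χ, hker⟩
    obtain ⟨ψ, hψ⟩ := CharacterModule.dual_surjective_of_injective ((LinearMap.ker d).liftQ d le_rfl)
      (by rw [← LinearMap.ker_eq_bot]; exact Submodule.ker_liftQ_eq_bot _ _ _ le_rfl) χq
    refine ⟨ψ, CharacterModule.ext _ fun n => ?_⟩
    exact (congr($hψ (q n))).trans
      (AddMonoidHom.liftOfRightInverse_comp_apply _ _ _ ⟨χ, hker⟩ n)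
  constructor
  · refine (injective_iff_map_eq_zero _).2 fun w hw => CharacterModule.eq_zero_of_character_apply fun χ => ?_
    have hsurj := CharacterModule.dual_surjective_of_injective ι (Submodule.injective_subtype _)
    have hker : LinearMap.ker (CharacterModule.dual ι) ≤ LinearMap.ker ε := fun χ' hχ' => by
      obtain ⟨ψ, rfl⟩ := hfactor χ' hχ'
      exact hεd ψ
    let E : CharacterModule (LinearMap.ker d) →ₗ[R] CharacterModule N :=
      ((LinearMap.ker (CharacterModule.dual ι)).liftQ ε hker).comp
        ((CharacterModule.dual ι).quotKerEquivOfSurjective hsurj).symm.toLinearMap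
    have hE : ∀ c x, E c (ι x) = c x := by
      intro c x
      obtain ⟨c', rfl⟩ := hsurj c
      have : E (CharacterModule.dual ι c') = ε c' := by
        show (LinearMap.ker (CharacterModule.dual ι)).liftQ ε hker
          (((CharacterModule.dual ι).quotKerEquivOfSurjective hsurj).symm (CharacterModule.dual ι c')) = _
        rw [show ((CharacterModule.dual ι).quotKerEquivOfSurjective hsurj).symm (CharacterModule.dual ι c') =
          Submodule.Quotient.mk c' by rw [LinearEquiv.symm_apply_eq]; rfl]
        rfl
      rw [this]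
      exact hεK c' x
    have key : χ = CharacterModule.dual (ι.lTensor S) (CharacterModule.uncurry (E.comp (CharacterModule.curry χ))) :=
      char_ext fun s x => (hE (CharacterModule.curry χ s) x).symm
    refine congr($key w).trans ?_
    show CharacterModule.uncurry (R := R) (A := S) (B := N) (E.comp (CharacterModule.curry (R := R) (A := S) (B := LinearMap.ker d) χ)) (ι.lTensor S w) = 0
    rw [hw, map_zero]
  · intro w hw
    rw [← Submodule.Quotient.mk_eq_zero]
    refine CharacterModule.eq_zero_of_character_apply fun c => ?_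
    let χ : CharacterModule (S ⊗[R] N) := CharacterModule.dual (LinearMap.range (ι.lTensor S)).mkQ c
    show χ w = 0
    let g := CharacterModule.curry χ
    have hg : ∀ s n, χ (s ⊗ₜ[R] n) = - CharacterModule.dual d (retr σ N (g s)) n := by
      intro s n
      have hK : CharacterModule.dual ι (g s) = 0 := CharacterModule.ext _ fun x => by
        show c ((LinearMap.range (ι.lTensor S)).mkQ (s ⊗ₜ[R] ι x)) = 0
        rw [show (LinearMap.range (ι.lTensor S)).mkQ (s ⊗ₜ[R] ι x) = 0 from
          (Submodule.Quotient.mk_eq_zero _).2 ⟨s ⊗ₜ x, rfl⟩, map_zero]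
      obtain ⟨ψ, hψ⟩ := hfactor _ hK
      have h0 : retr σ N (g s) (ρ n) = 0 := by
        have := congr($(hεd ψ) n)
        rw [hψ] at this
        exact this
      show _ = - retr σ N (g s) (d n)
      rw [hd, LinearMap.sub_apply, map_sub, h0, zero_sub, neg_neg]
      exact (retr_unit hσ (g s) n).symm
    have key : χ = - CharacterModule.dual (d.lTensor S) (CharacterModule.uncurry ((retr σ N).comp g)) := by
      refine char_ext fun s n => ?_
      rw [hg]
      rfl
    refine congr($key w).trans ?_
    show - CharacterModule.uncurry (R := R) (A := S) (B := S ⊗[R] N) ((retr σ N).comp g) (d.lTensor S w) = 0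
    rw [hw, map_zero, neg_zero]

end Groth.Agent.RingDesc
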