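import Groth.Agent.RingDesc.Main
import Groth.Agent.RingDesc.Pure

/-!
# Descent is an equivalence exactly for universally injective maps
-/

set_option autoImplicit false
set_option backward.isDefEq.respectTransparency false
set_option backward.isDefEq.respectTransparency.types false

universe u

open CategoryTheory Opposite TensorProduct

namespace Groth.Agent.RingDesc

open ModuleCat

theorem smul_eta {R₀ S₀ : CommRingCat.{u}} [Algebra R₀ S₀]
    (D : Desc.ringModPF.{u}.DescentData (fun _ : PUnit.{u + 1} => (CommRingCat.ofHom (algebraMap R₀ S₀)).op))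
    (s : S₀) (n : obj (CommRingCat.ofHom (algebraMap R₀ S₀)) D) : s • eta D n = s ⊗ₜ[R₀] n := by
  rw [eta, TensorProduct.mk_apply, TensorProduct.smul_tmul', smul_eq_mul, mul_one]

variable {R₀ S₀ : CommRingCat.{u}} (f : R₀ ⟶ S₀)

/-- The functor to descent data. -/
noncomputable abbrev toDD : ModuleCat.{u} R₀ ⥤ Desc.ringModPF.{u}.DescentData (fun _ : PUnit.{u + 1} => f.op) :=
  Desc.ringModPF.{u}.toDescentData (fun _ : PUnit.{u + 1} => f.op)

/-- Universal injectivity, for a morphism. -/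
def Pure : Prop :=
  letI : Algebra R₀ S₀ := f.hom.toAlgebra
  ∀ (P : Type u) [AddCommGroup P] [Module R₀ P], Function.Injective (LinearMap.lTensor P (Algebra.linearMap R₀ S₀))

theorem obj_toDD (M : ModuleCat.{u} R₀) : obj f ((toDD f).obj M) = (extendScalars f.hom).obj M := rfl

theorem glue_toDD {T : CommRingCat.{u}} (a b : S₀ ⟶ T) (q : R₀ ⟶ T) (ha : f ≫ a = q) (hb : f ≫ b = q)
    (M : ModuleCat.{u} R₀) (m : M) :
    glue f ((toDD f).obj M) q a b ha hb (one a ((extendScalars f.hom).obj M) (one f M m)) =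
      one b ((extendScalars f.hom).obj M) (one f M m) := by
  show ((cmp f a q (by rw [← ha]; rfl) M).inv ≫ (cmp f b q (by rw [← hb]; rfl) M).hom) _ = _
  rw [ModuleCat.comp_apply, comp_inv_one f a q ha, comp_hom_one f b q hb]

theorem faithful (hf : Pure f) : (toDD f).Faithful := by
  letI : Algebra R₀ S₀ := f.hom.toAlgebra
  refine ⟨fun {M M'} u v h => ModuleCat.hom_ext (LinearMap.ext fun m => unit_injective (R := R₀) (S := S₀) hf M' ?_)⟩
  have h1 := congrArg (fun g : (toDD f).obj M ⟶ (toDD f).obj M' => g.hom PUnit.unit) h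
  have h2 : (extendScalars f.hom).map u (one f M m) = (extendScalars f.hom).map v (one f M m) :=
    congrArg (fun g : (extendScalars f.hom).obj M ⟶ (extendScalars f.hom).obj M' => g (one f M m)) h1
  exact h2

theorem pure_of_faithful [(toDD f).Faithful] : Pure f := by
  letI : Algebra R₀ S₀ := f.hom.toAlgebra
  intro P _ _
  refine (injective_iff_map_eq_zero _).2 fun z hz => ?_
  obtain ⟨x, rfl⟩ : ∃ x : P, x ⊗ₜ[R₀] (1 : R₀) = z := ⟨TensorProduct.rid R₀ P z, (TensorProduct.rid R₀ P).symm_apply_apply z⟩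
  have hx : (1 : S₀) ⊗ₜ[R₀] x = 0 := by
    have := congrArg (TensorProduct.comm R₀ P S₀) hz
    simpa using this
  let K : Submodule R₀ P := Submodule.span R₀ {x}
  let u : ModuleCat.of R₀ K ⟶ ModuleCat.of R₀ P := ModuleCat.ofHom K.subtype
  have h0 : u = 0 := by
    refine (toDD f).map_injective ?_
    refine Pseudofunctor.DescentData.hom_ext fun i => ?_
    show (extendScalars f.hom).map u = (extendScalars f.hom).map 0
    refine ext_one f fun m => ?_
    rw [map_one', map_one']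
    show ((1 : S₀) ⊗ₜ[R₀] (m : K).1 : S₀ ⊗[R₀] P) = (1 : S₀) ⊗ₜ[R₀] (0 : P)
    obtain ⟨c, hc⟩ := Submodule.mem_span_singleton.1 (m : K).2
    rw [← hc, TensorProduct.tmul_smul, hx, smul_zero, TensorProduct.tmul_zero]
  have : x = 0 := congrArg (fun g : ModuleCat.of R₀ K ⟶ ModuleCat.of R₀ P => g ⟨x, Submodule.mem_span_singleton_self x⟩) h0
  rw [this, TensorProduct.zero_tmul]

theorem e_bijective_of_pure (hf : Pure f) (D : Desc.ringModPF.{u}.DescentData (fun _ : PUnit.{u + 1} => f.op)) :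
    letI : Algebra R₀ S₀ := f.hom.toAlgebra
    Function.Bijective (e (R₀ := R₀) (S₀ := S₀) D) := by
  letI : Algebra R₀ S₀ := f.hom.toAlgebra
  obtain ⟨σ, hσ⟩ := exists_isSection (R := R₀) (S := S₀) hf
  obtain ⟨hinj, hex⟩ := fork hσ (obj f D) ((rho (R₀ := R₀) (S₀ := S₀) D).restrictScalars R₀)
    (coassoc (R₀ := R₀) (S₀ := S₀) D)
  refine ⟨fun x y h => hinj ?_, fun n => ?_⟩
  · exact (rho_e (R₀ := R₀) (S₀ := S₀) D x).symm.trans
      ((congrArg (rho (R₀ := R₀) (S₀ := S₀) D) h).trans (rho_e (R₀ := R₀) (S₀ := S₀) D y))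
  · obtain ⟨w, hw⟩ := hex (rho (R₀ := R₀) (S₀ := S₀) D n) (by
      rw [LinearMap.lTensor_sub, LinearMap.sub_apply]
      exact sub_eq_zero.2 (coassoc (R₀ := R₀) (S₀ := S₀) D n))
    refine ⟨w, ?_⟩
    have h1 := mul_rho (R₀ := R₀) (S₀ := S₀) D (e (R₀ := R₀) (S₀ := S₀) D w)
    rw [rho_e (R₀ := R₀) (S₀ := S₀) D w] at h1
    exact h1.symm.trans ((congrArg (mul (R₀ := R₀) (S₀ := S₀) D) hw).trans (mul_rho (R₀ := R₀) (S₀ := S₀) D n))

section Full

variable {R₀ S₀ : CommRingCat.{u}} [Algebra R₀ S₀]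
  (D : Desc.ringModPF.{u}.DescentData (fun _ : PUnit.{u + 1} => (CommRingCat.ofHom (algebraMap R₀ S₀)).op))
  {M' : Type u} [AddCommGroup M'] [Module R₀ M'] (L : S₀ ⊗[R₀] M' ≃ₗ[R₀] obj (CommRingCat.ofHom (algebraMap R₀ S₀)) D)

/-- A descent-invariant element in a datum isomorphic to a canonical one comes from the base. -/
theorem exists_of_invariant
    (hf : ∀ (P : Type u) [AddCommGroup P] [Module R₀ P], Function.Injective (LinearMap.lTensor P (Algebra.linearMap R₀ S₀)))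
    (hrho : ∀ s m, rho D (L (s ⊗ₜ[R₀] m)) = s ⊗ₜ[R₀] L ((1 : S₀) ⊗ₜ[R₀] m))
    (x : obj (CommRingCat.ofHom (algebraMap R₀ S₀)) D) (hx : rho D x = eta D x) : ∃ m, L ((1 : S₀) ⊗ₜ[R₀] m) = x := by
  have h : ∀ y, rho D (L y) = L.toLinearMap.lTensor S₀ ((unit (R := R₀) S₀ M').lTensor S₀ y) := fun y => by
    induction y using TensorProduct.induction_on with
    | zero => simp
    | tmul s m => rw [hrho]; rfl
    | add a b ha hb => simp [map_add, ha, hb]
  have h2 : (unit (R := R₀) S₀ M').lTensor S₀ (L.symm x) = (1 : S₀) ⊗ₜ[R₀] L.symm x := by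
    have h1 := congrArg (L.symm.toLinearMap.lTensor S₀) ((h (L.symm x)).symm.trans (by rw [L.apply_symm_apply, hx]))
    rw [← LinearMap.comp_apply, ← LinearMap.lTensor_comp, L.symm_comp, LinearMap.lTensor_id, LinearMap.id_apply] at h1
    exact h1
  obtain ⟨m, hm⟩ := exists_of_unit_eq (R := R₀) (S := S₀) hf M' _ h2
  exact ⟨m, by rw [hm, L.apply_symm_apply]⟩

end Full

section Alg

variable {R₀ S₀ : CommRingCat.{u}} [Algebra R₀ S₀]

set_option quotPrecheck false

local notation "φ" => CommRingCat.ofHom (algebraMap R₀ S₀)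

theorem rho_of_P (D : Desc.ringModPF.{u}.DescentData (fun _ : PUnit.{u + 1} => (CommRingCat.ofHom (algebraMap R₀ S₀)).op))
    (n : obj φ D) (h : P φ D i₁ i₂ i_cond n = one i₂ (obj φ D) n) : rho D n = eta D n := by
  show kappa D (P φ D i₁ i₂ i_cond n) = _
  rw [h]
  have h2 := kappa_gen D 1 1 n
  rw [← Algebra.TensorProduct.one_def, one_smul, one_smul] at h2
  exact h2

theorem P_toDD {T : CommRingCat.{u}} (a b : S₀ ⟶ T) (h : φ ≫ a = φ ≫ b) (M : ModuleCat.{u} R₀) (m : M) :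
    P φ ((toDD φ).obj M) a b h (one φ M m) = one b (obj φ ((toDD φ).obj M)) (one φ M m) :=
  glue_toDD φ a b (φ ≫ a) rfl h.symm M m

theorem P12 (M : ModuleCat.{u} R₀) (m : M) :
    P φ ((toDD φ).obj M) i₁ i₂ i_cond (one φ M m) = one i₂ (obj φ ((toDD φ).obj M)) (one φ M m) :=
  P_toDD i₁ i₂ i_cond M m

theorem rho_toDD (M' : ModuleCat.{u} R₀) (m : M') :
    rho ((toDD φ).obj M') (one φ M' m) = eta ((toDD φ).obj M') (one φ M' m) :=
  rho_of_P ((toDD φ).obj M') (one φ M' m) (P12 M' m)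

/-- The map of a morphism, typed. -/
noncomputable def gmap {M M' : ModuleCat.{u} R₀} (g : (toDD φ).obj M ⟶ (toDD φ).obj M') :
    obj φ ((toDD φ).obj M) ⟶ obj φ ((toDD φ).obj M') := g.hom PUnit.unit

theorem gmap_comm {T : CommRingCat.{u}} (a b : S₀ ⟶ T) (q : R₀ ⟶ T) (ha : φ ≫ a = q) (hb : φ ≫ b = q)
    {M M' : ModuleCat.{u} R₀} (g : (toDD φ).obj M ⟶ (toDD φ).obj M') :
    (extendScalars a.hom).map (gmap g) ≫ glue φ ((toDD φ).obj M') q a b ha hb =
      glue φ ((toDD φ).obj M) q a b ha hb ≫ (extendScalars b.hom).map (gmap g) :=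
  g.comm q.op (i₁ := PUnit.unit) (i₂ := PUnit.unit) a.op b.op (congrArg Quiver.Hom.op ha) (congrArg Quiver.Hom.op hb)

theorem P_hom {T : CommRingCat.{u}} (a b : S₀ ⟶ T) (h : φ ≫ a = φ ≫ b) (M M' : ModuleCat.{u} R₀)
    (g : (toDD φ).obj M ⟶ (toDD φ).obj M') (m : M) :
    P φ ((toDD φ).obj M') a b h (gmap g (one φ M m)) =
      one b (obj φ ((toDD φ).obj M')) (gmap g (one φ M m)) := by
  have h3 := congrArg (fun F : (extendScalars a.hom).obj (obj φ ((toDD φ).obj M)) ⟶
      (extendScalars b.hom).obj (obj φ ((toDD φ).obj M')) =>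
      F (one a (obj φ ((toDD φ).obj M)) (one φ M m))) (gmap_comm a b (φ ≫ a) rfl h.symm g)
  simp only [ModuleCat.comp_apply] at h3
  rw [map_one'] at h3
  refine h3.trans ?_
  refine (congrArg ((extendScalars b.hom).map (gmap g))
    (show glue φ ((toDD φ).obj M) (φ ≫ a) a b rfl h.symm (one a (obj φ ((toDD φ).obj M)) (one φ M m)) =
      one b (obj φ ((toDD φ).obj M)) (one φ M m) from glue_toDD φ a b (φ ≫ a) rfl h.symm M m)).trans ?_
  exact map_one' b (gmap g) _

theorem P12_hom (M M' : ModuleCat.{u} R₀) (g : (toDD φ).obj M ⟶ (toDD φ).obj M') (m : M) :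
    P φ ((toDD φ).obj M') i₁ i₂ i_cond (gmap g (one φ M m)) =
      one i₂ (obj φ ((toDD φ).obj M')) (gmap g (one φ M m)) :=
  P_hom i₁ i₂ i_cond M M' g m

theorem invariant_hom (M M' : ModuleCat.{u} R₀) (g : (toDD φ).obj M ⟶ (toDD φ).obj M') (m : M) :
    rho ((toDD φ).obj M') (gmap g (one φ M m)) = eta ((toDD φ).obj M') (gmap g (one φ M m)) :=
  rho_of_P ((toDD φ).obj M') (gmap g (one φ M m)) (P12_hom M M' g m)

end Alg

/-- The canonical datum as a tensor product. -/
noncomputable def objEquiv (M' : ModuleCat.{u} R₀) :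
    letI : Algebra R₀ S₀ := f.hom.toAlgebra
    S₀ ⊗[R₀] M' ≃ₗ[R₀] obj (R₀ := R₀) (S₀ := S₀) (CommRingCat.ofHom (algebraMap R₀ S₀)) ((toDD f).obj M') :=
  letI : Algebra R₀ S₀ := f.hom.toAlgebra
  { toFun := fun y => y
    invFun := fun y => y
    left_inv := fun _ => rfl
    right_inv := fun _ => rfl
    map_add' := fun _ _ => rfl
    map_smul' := fun c y => (algebraMap_smul (R := R₀) (M := S₀ ⊗[R₀] M') S₀ c y).symm }

theorem full (hf : Pure f) : (toDD f).Full := by
  letI : Algebra R₀ S₀ := f.hom.toAlgebra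
  refine ⟨fun {M M'} g => ?_⟩
  let g₀ : (extendScalars f.hom).obj M ⟶ (extendScalars f.hom).obj M' := gmap (R₀ := R₀) (S₀ := S₀) g
  let L := objEquiv f M'
  have hL : ∀ (s : S₀) (m : M'), L (s ⊗ₜ[R₀] m) = s • one f M' m := fun s m => by
    show (s ⊗ₜ[R₀] m : S₀ ⊗[R₀] M') = (s • ((1 : S₀) ⊗ₜ[R₀] m) : S₀ ⊗[R₀] M')
    rw [TensorProduct.smul_tmul', smul_eq_mul, mul_one]
  have hrho : ∀ (s : S₀) (m : M'), rho (R₀ := R₀) (S₀ := S₀) ((toDD f).obj M') (L (s ⊗ₜ[R₀] m)) =
      s ⊗ₜ[R₀] L ((1 : S₀) ⊗ₜ[R₀] m) := fun s m => by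
    rw [hL, hL, one_smul]
    refine ((rho (R₀ := R₀) (S₀ := S₀) ((toDD f).obj M')).map_smul s (one f M' m)).trans ?_
    exact (congrArg (s • ·) (rho_toDD (R₀ := R₀) (S₀ := S₀) M' m)).trans
      (smul_eta (R₀ := R₀) (S₀ := S₀) ((toDD f).obj M') s (one f M' m))
  have hex : ∀ m : M, ∃ m' : M', one f M' m' = g₀ (one f M m) := fun m => by
    obtain ⟨m', hm'⟩ := exists_of_invariant (R₀ := R₀) (S₀ := S₀) ((toDD f).obj M') L hf hrho _
      (invariant_hom (R₀ := R₀) (S₀ := S₀) M M' g m)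
    exact ⟨m', ((hL 1 m').trans (one_smul _ _)).symm.trans hm'⟩
  choose v hv using hex
  have hinj : ∀ a b : M', one f M' a = one f M' b → a = b := fun a b h =>
    unit_injective (R := R₀) (S := S₀) hf M' h
  let u : M →ₗ[R₀] M' :=
    { toFun := v
      map_add' := fun a b => hinj _ _ (by
        rw [one_add, hv, hv, hv, one_add]
        exact map_add g₀.hom _ _)
      map_smul' := fun c a => hinj _ _ (by
        rw [RingHom.id_apply, one_smul', hv, hv, one_smul']
        exact map_smul g₀.hom (f.hom c) (one f M a)) }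
  refine ⟨ModuleCat.ofHom u, Pseudofunctor.DescentData.hom_ext fun i => ?_⟩
  show (extendScalars f.hom).map (ModuleCat.ofHom u) = g₀
  refine ext_one f fun m => ?_
  rw [map_one']
  exact hv m

theorem isEquivalence (hf : Pure f) : (toDD f).IsEquivalence where
  faithful := faithful f hf
  full := full f hf
  essSurj := ⟨fun D => effective' f D (e_bijective_of_pure f hf D)⟩

end Groth.Agent.RingDesc
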