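import Groth.Agent.RingDesc.Cocycle

/-!
# Effectiveness of faithfully flat descent for modules
-/

set_option autoImplicit false
set_option backward.isDefEq.respectTransparency false
set_option backward.isDefEq.respectTransparency.types false

universe u

open CategoryTheory Opposite TensorProduct

namespace Groth.Agent.RingDesc

open ModuleCat

variable {R₀ S₀ : CommRingCat.{u}} [Algebra R₀ S₀]
  (D : Desc.ringModPF.{u}.DescentData (fun _ : PUnit.{u + 1} => (CommRingCat.ofHom (algebraMap R₀ S₀)).op))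

set_option quotPrecheck false

local notation "φ" => CommRingCat.ofHom (algebraMap R₀ S₀)
local notation "N" => (obj (CommRingCat.ofHom (algebraMap R₀ S₀)) D)

/-- Invariants. -/
noncomputable def inv : Submodule R₀ N := LinearMap.ker ((rho D).restrictScalars R₀ - eta D)

theorem mem_inv {n : N} : n ∈ inv D ↔ rho D n = (1 : S₀) ⊗ₜ[R₀] n := by
  rw [inv, LinearMap.mem_ker, LinearMap.sub_apply, sub_eq_zero]; rfl

/-- `s ⊗ m ↦ s • m`. -/
noncomputable def e : S₀ ⊗[R₀] inv D →ₗ[S₀] N := (inv D).subtype.liftBaseChange S₀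

theorem rho_e (w : S₀ ⊗[R₀] inv D) : rho D (e D w) = (inv D).subtype.lTensor S₀ w := by
  induction w using TensorProduct.induction_on with
  | zero => simp
  | tmul s m =>
    rw [e, LinearMap.liftBaseChange_tmul, map_smul, Submodule.coe_subtype, (mem_inv D).1 m.2, TensorProduct.smul_tmul',
      smul_eq_mul, mul_one]
    rfl
  | add a b ha hb => rw [map_add, map_add, map_add, ha, hb]

theorem e_bijective [Module.Flat R₀ S₀] : Function.Bijective (e D) := by
  constructor
  · intro x y h
    exact Module.Flat.lTensor_preserves_injective_linearMap _ (Submodule.injective_subtype _)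
      ((rho_e D x).symm.trans ((congrArg (rho D) h).trans (rho_e D y)))
  · intro n
    have hex : Function.Exact (inv D).subtype ((rho D).restrictScalars R₀ - eta D) := LinearMap.exact_subtype_ker_map _
    have h0 : ((rho D).restrictScalars R₀ - eta D).lTensor S₀ (rho D n) = 0 := by
      rw [LinearMap.lTensor_sub, LinearMap.sub_apply, coassoc, sub_self]
    obtain ⟨w, hw⟩ := (Module.Flat.lTensor_exact S₀ hex _).1 h0
    refine ⟨w, ?_⟩
    rw [← mul_rho D (e D w), rho_e, hw, mul_rho]

omit [Algebra R₀ S₀] in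
theorem induct' (f : R₀ ⟶ S₀) (M : ModuleCat.{u} R₀) {motive : (extendScalars f.hom).obj M → Prop}
    (zero : motive 0) (gen : ∀ (s : S₀) (m : M), motive (s • one f M m))
    (add : ∀ x y, motive x → motive y → motive (x + y)) (x : (extendScalars f.hom).obj M) : motive x := by
  letI := f.hom.toAlgebra
  induction x using TensorProduct.induction_on with
  | zero => exact zero
  | tmul s m =>
    have h : ∀ s : S₀, (show (extendScalars f.hom).obj M from ((s ⊗ₜ[R₀] m : S₀ ⊗[R₀] M))) = s • one f M m := fun s =>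
      ((ExtendScalars.smul_tmul f.hom s (1 : S₀) m).trans
        (congrArg (fun z : S₀ => (z ⊗ₜ[R₀] m : S₀ ⊗[R₀] M)) (mul_one s))).symm
    exact (congrArg motive (h s)).mpr (gen s m)
  | add x y hx hy => exact add x y hx hy

omit [Algebra R₀ S₀] in
theorem effective' (f : R₀ ⟶ S₀) (D : Desc.ringModPF.{u}.DescentData (fun _ : PUnit.{u + 1} => f.op))
    (hbij : letI : Algebra R₀ S₀ := f.hom.toAlgebra; Function.Bijective (e (R₀ := R₀) (S₀ := S₀) D)) :
    ∃ M : ModuleCat.{u} R₀, Nonempty ((Desc.ringModPF.{u}.toDescentData (fun _ : PUnit.{u + 1} => f.op)).obj M ≅ D) := by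
  letI : Algebra R₀ S₀ := f.hom.toAlgebra
  let M : ModuleCat.{u} R₀ := ModuleCat.of R₀ (inv (R₀ := R₀) (S₀ := S₀) D)
  let eq : (extendScalars f.hom).obj M ≃ₗ[S₀] (obj f D) :=
    LinearEquiv.ofBijective (e (R₀ := R₀) (S₀ := S₀) D) hbij
  have heq : ∀ m : M, eq (one f M m) = (m : inv (R₀ := R₀) (S₀ := S₀) D).1 := fun m => by
    show e (R₀ := R₀) (S₀ := S₀) D ((1 : S₀) ⊗ₜ[R₀] _) = _
    rw [e, LinearMap.liftBaseChange_tmul, one_smul]
    rfl
  let iso : (extendScalars f.hom).obj M ≅ obj f D := eq.toModuleIso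
  refine ⟨M, ⟨Pseudofunctor.DescentData.isoMk (fun _ => iso) ?_⟩⟩
  intro Y q i₁' i₂' g₁ g₂ h₁ h₂
  obtain ⟨⟩ := i₁'
  obtain ⟨⟩ := i₂'
  induction Y using Opposite.rec with
  | op T =>
  obtain ⟨a, rfl⟩ : ∃ a : S₀ ⟶ T, g₁ = a.op := ⟨g₁.unop, rfl⟩
  obtain ⟨b, rfl⟩ : ∃ b : S₀ ⟶ T, g₂ = b.op := ⟨g₂.unop, rfl⟩
  obtain ⟨c, rfl⟩ : ∃ c : R₀ ⟶ T, q = c.op := ⟨q.unop, rfl⟩
  have ha : f ≫ a = c := congrArg Quiver.Hom.unop h₁
  have hb : f ≫ b = c := congrArg Quiver.Hom.unop h₂
  have goal : (extendScalars a.hom).map iso.hom ≫ glue f D c a b ha hb =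
      ((cmp f a c (by rw [← ha]; rfl) M).inv ≫ (cmp f b c (by rw [← hb]; rfl) M).hom) ≫
        (extendScalars b.hom).map iso.hom := by
    refine ext_one a fun x => ?_
    simp only [ModuleCat.comp_apply, map_one']
    induction x using induct' f M with
    | zero => simp only [map_zero, one_zero]
    | gen s m =>
      rw [map_smul]
      simp only [one_smul', map_smul]
      congr 1
      show glue f D c a b ha hb (one a (obj f D) (eq (one f M m))) = _
      rw [heq, glue_one f D a b c ha hb]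
      rw [comp_inv_one f a c ha, comp_hom_one f b c hb]
      rw [map_one']
      show _ = one b (obj f D) (eq (one f M m))
      rw [heq]
      refine (P_eq (R₀ := R₀) (S₀ := S₀) D a b (ha.trans hb.symm) _).trans ?_
      have hm := (mem_inv (R₀ := R₀) (S₀ := S₀) D).1 (m : inv (R₀ := R₀) (S₀ := S₀) D).2
      erw [hm, theta_tmul]
      rw [map_one, one_smul]
    | add x y hx hy => simp only [map_add, one_add, hx, hy]
  exact goal

omit [Algebra R₀ S₀] in
theorem effective (f : R₀ ⟶ S₀) (hf : f.hom.Flat)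
    (D : Desc.ringModPF.{u}.DescentData (fun _ : PUnit.{u + 1} => f.op)) :
    ∃ M : ModuleCat.{u} R₀, Nonempty ((Desc.ringModPF.{u}.toDescentData (fun _ : PUnit.{u + 1} => f.op)).obj M ≅ D) :=
  effective' f D (by
    letI : Algebra R₀ S₀ := f.hom.toAlgebra
    haveI : Module.Flat R₀ S₀ := hf
    exact e_bijective (R₀ := R₀) (S₀ := S₀) D)

end Groth.Agent.RingDesc
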