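import Mathlib.RingTheory.Flat.FaithfullyFlat.Algebra
import Mathlib.RingTheory.TensorProduct.Pi
import Mathlib.LinearAlgebra.Matrix.ToLin
import Mathlib.LinearAlgebra.Matrix.StdBasis
import Mathlib.RingTheory.Finiteness.Basic
import Mathlib.Data.Matrix.Basis

/-!
# Descent of matrices and vectors along a faithfully flat ring map
-/

set_option autoImplicit false

universe u

open TensorProduct Matrix

namespace Groth.Agent.MatDesc

variable {R S : Type u} [CommRing R] [CommRing S] [Algebra R S]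

/-- A natural family of matrices indexed by pairs of maps out of `S` over `R`. -/
structure Glue (R S : Type u) [CommRing R] [CommRing S] [Algebra R S] (ι : Type) [Fintype ι] where
  g : ∀ {T : Type u} [CommRing T] [Algebra R T], (S →ₐ[R] T) → (S →ₐ[R] T) → Matrix ι ι T
  natural : ∀ {T T' : Type u} [CommRing T] [Algebra R T] [CommRing T'] [Algebra R T'] (h : T →ₐ[R] T')
    (a b : S →ₐ[R] T), g (h.comp a) (h.comp b) = (g a b).map h
  cocycle : ∀ {T : Type u} [CommRing T] [Algebra R T] (a b c : S →ₐ[R] T), g b c * g a b = g a c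

variable {ι : Type} [Fintype ι]

/-- The transposed family. -/
def Glue.dual (G : Glue R S ι) : Glue R S ι where
  g a b := (G.g b a)ᵀ
  natural h a b := by rw [G.natural h b a, Matrix.transpose_map]
  cocycle a b c := by rw [← Matrix.transpose_mul, G.cocycle c b a]

/-- The projector of the family. -/
def Glue.proj (G : Glue R S ι) : Matrix ι ι S := G.g (AlgHom.id R S) (AlgHom.id R S)

theorem map_mulVec' {T T' : Type u} [CommRing T] [CommRing T'] {κ κ' : Type*} [Fintype κ'] (f : T →+* T')
    (M : Matrix κ κ' T) (v : κ' → T) : ⇑f ∘ (M *ᵥ v) = M.map f *ᵥ (⇑f ∘ v) :=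
  funext fun i => RingHom.map_mulVec f M v i

/-- An equation with coefficients in `R` solvable after faithfully flat extension is solvable. -/
theorem mem_range_of_tmul [Module.FaithfullyFlat R S] {M N : Type u} [AddCommGroup M] [AddCommGroup N] [Module R M]
    [Module R N] (L : M →ₗ[R] N) (q : N) (z : S ⊗[R] M) (hz : L.lTensor S z = 1 ⊗ₜ q) : ∃ x, L x = q := by
  have h0 : (Submodule.mkQ (LinearMap.range L)).comp L = 0 :=
    LinearMap.ext fun x => (Submodule.Quotient.mk_eq_zero _).2 ⟨x, rfl⟩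
  have h1 : (1 : S) ⊗ₜ[R] (Submodule.mkQ (LinearMap.range L) q) = (1 : S) ⊗ₜ[R] (0 : N ⧸ LinearMap.range L) := by
    rw [← LinearMap.lTensor_tmul S (Submodule.mkQ (LinearMap.range L)), ← hz, ← LinearMap.comp_apply,
      ← LinearMap.lTensor_comp, h0, LinearMap.lTensor_zero, LinearMap.zero_apply, tmul_zero]
  exact (Submodule.Quotient.mk_eq_zero _).1 (Module.FaithfullyFlat.tensorProduct_mk_injective (A := R) (B := S) _ h1)

/-- Elements equalized by both inclusions come from the base. -/
theorem exists_of_equalized [Module.FaithfullyFlat R S] (x : S) (h : (1 : S) ⊗ₜ[R] x = x ⊗ₜ[R] (1 : S)) :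
    ∃ r : R, algebraMap R S r = x :=
  mem_range_of_tmul (Algebra.linearMap R S) x (x ⊗ₜ 1) (by rw [LinearMap.lTensor_tmul, h]; simp)

/-- The difference map of a family. -/
def diff (G : Glue R S ι) {T : Type u} [CommRing T] [Algebra R T] (a b : S →ₐ[R] T) : (ι → S) →ₗ[R] (ι → T) where
  toFun x := ⇑b ∘ x - G.g a b *ᵥ (⇑a ∘ x)
  map_add' x y := by
    have : ∀ f : S →ₐ[R] T, ⇑f ∘ (x + y) = ⇑f ∘ x + ⇑f ∘ y := fun f => funext fun i => map_add f _ _
    rw [this, this, Matrix.mulVec_add]; abel
  map_smul' r x := by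
    have : ∀ f : S →ₐ[R] T, ⇑f ∘ (r • x) = r • (⇑f ∘ x) := fun f => funext fun i => map_smul f _ _
    rw [this, this, Matrix.mulVec_smul, RingHom.id_apply, smul_sub]

variable [DecidableEq ι]

theorem piRight_diff (G : Glue R S ι) {T : Type u} [CommRing T] [Algebra R T] (a b : S →ₐ[R] T)
    (z : S ⊗[R] (ι → S)) :
    TensorProduct.piRight R R S (fun _ : ι => T) ((diff G a b).lTensor S z) =
      ⇑(Algebra.TensorProduct.map (AlgHom.id R S) b) ∘ (TensorProduct.piRight R R S (fun _ : ι => S) z) -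
        (G.g a b).map (Algebra.TensorProduct.includeRight (R := R) (A := S) (B := T)) *ᵥ
          (⇑(Algebra.TensorProduct.map (AlgHom.id R S) a) ∘ TensorProduct.piRight R R S (fun _ : ι => S) z) := by
  induction z using TensorProduct.induction_on with
  | zero => funext i; simp [Matrix.mulVec, dotProduct]
  | tmul s x =>
    funext i
    simp [diff, Matrix.mulVec, dotProduct, TensorProduct.tmul_sub, TensorProduct.tmul_sum]
  | add z w hz hw =>
    simp only [map_add, hz, hw]
    have : ∀ (f : S ⊗[R] S →ₐ[R] S ⊗[R] T) (u v : ι → S ⊗[R] S), ⇑f ∘ (u + v) = ⇑f ∘ u + ⇑f ∘ v :=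
      fun f u v => funext fun i => map_add f _ _
    rw [this, this, Matrix.mulVec_add]; abel

/-- The universal pair. -/
abbrev i1 (R S : Type u) [CommRing R] [CommRing S] [Algebra R S] : S →ₐ[R] S ⊗[R] S :=
  Algebra.TensorProduct.includeLeft

/-- The universal pair. -/
abbrev i2 (R S : Type u) [CommRing R] [CommRing S] [Algebra R S] : S →ₐ[R] S ⊗[R] S :=
  Algebra.TensorProduct.includeRight

theorem lift_i1 {T : Type u} [CommRing T] [Algebra R T] (a b : S →ₐ[R] T) :
    (Algebra.TensorProduct.lift a b fun _ _ => Commute.all _ _).comp (i1 R S) = a :=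
  Algebra.TensorProduct.lift_comp_includeLeft _ _ _

theorem lift_i2 {T : Type u} [CommRing T] [Algebra R T] (a b : S →ₐ[R] T) :
    (Algebra.TensorProduct.lift a b fun _ _ => Commute.all _ _).comp (i2 R S) = b :=
  AlgHom.ext fun x => by simp

/-- The first inclusion into the triple product. -/
abbrev j0 (R S : Type u) [CommRing R] [CommRing S] [Algebra R S] : S →ₐ[R] S ⊗[R] (S ⊗[R] S) :=
  Algebra.TensorProduct.includeLeft

theorem map_i1 (b : S →ₐ[R] S ⊗[R] S) :
    (Algebra.TensorProduct.map (AlgHom.id R S) b).comp (i1 R S) = j0 R S :=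
  AlgHom.ext fun x => by simp

theorem map_i2 (b : S →ₐ[R] S ⊗[R] S) :
    (Algebra.TensorProduct.map (AlgHom.id R S) b).comp (i2 R S) =
      (Algebra.TensorProduct.includeRight : S ⊗[R] S →ₐ[R] S ⊗[R] (S ⊗[R] S)).comp b :=
  AlgHom.ext fun x => by simp

/-- A natural family of vectors. -/
structure Vec (R S : Type u) [CommRing R] [CommRing S] [Algebra R S] (ι : Type) where
  c : ∀ {T : Type u} [CommRing T] [Algebra R T], (S →ₐ[R] T) → (S →ₐ[R] T) → ι → T
  natural : ∀ {T T' : Type u} [CommRing T] [Algebra R T] [CommRing T'] [Algebra R T'] (h : T →ₐ[R] T')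
    (a b : S →ₐ[R] T), c (h.comp a) (h.comp b) = ⇑h ∘ c a b

/-- Cocycles are coboundaries. -/
theorem exists_sub_eq [Module.FaithfullyFlat R S] (G : Glue R S ι) (c : Vec R S ι)
    (hc : ∀ {T : Type u} [CommRing T] [Algebra R T] (a b d : S →ₐ[R] T), c.c a d = G.g b d *ᵥ c.c a b + c.c b d) :
    ∃ x : ι → S, ∀ {T : Type u} [CommRing T] [Algebra R T] (a b : S →ₐ[R] T),
      c.c a b = ⇑b ∘ x - G.g a b *ᵥ (⇑a ∘ x) := by
  obtain ⟨x, hx⟩ := mem_range_of_tmul (diff G (i1 R S) (i2 R S)) (c.c (i1 R S) (i2 R S))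
    ((TensorProduct.piRight R R S (fun _ : ι => S)).symm (c.c (i1 R S) (i2 R S))) (by
      refine (TensorProduct.piRight R R S (fun _ : ι => S ⊗[R] S)).injective ?_
      rw [piRight_diff, LinearEquiv.apply_symm_apply, ← c.natural, ← c.natural, map_i1, map_i1, map_i2, map_i2,
        ← G.natural, hc (j0 R S) _ (Algebra.TensorProduct.includeRight.comp (i2 R S)), add_sub_cancel_left,
        c.natural]
      funext i
      simp)
  refine ⟨x, fun {T} _ _ a b => ?_⟩
  let h := Algebra.TensorProduct.lift a b fun _ _ => Commute.all _ _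
  have ha : ⇑h ∘ (⇑(i1 R S) ∘ x) = ⇑a ∘ x := funext fun i => DFunLike.congr_fun (lift_i1 a b) (x i)
  have hb : ⇑h ∘ (⇑(i2 R S) ∘ x) = ⇑b ∘ x := funext fun i => DFunLike.congr_fun (lift_i2 a b) (x i)
  have e1 : c.c a b = ⇑h ∘ c.c (i1 R S) (i2 R S) := by rw [← c.natural, lift_i1, lift_i2]
  have e2 : G.g a b = (G.g (i1 R S) (i2 R S)).map h := by rw [← G.natural, lift_i1, lift_i2]
  rw [e1, e2, ← hx, ← ha, ← hb]
  funext i
  simp [diff, Matrix.mulVec, dotProduct, map_sum, h]

/-- Invariant vectors span the image of the projector. -/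
theorem exists_invariant_span [Module.Flat R S] (G : Glue R S ι) :
    ∃ (k : ℕ) (V : Matrix ι (Fin k) S) (Y : Matrix (Fin k) ι S), V * Y = G.proj ∧
      ∀ {T : Type u} [CommRing T] [Algebra R T] (a b : S →ₐ[R] T), G.g a b * V.map a = V.map b := by
  let L := diff G (i1 R S) (i2 R S)
  let K : Submodule R (ι → S) := LinearMap.ker L
  have hinv : ∀ y ∈ K, ∀ {T : Type u} [CommRing T] [Algebra R T] (a b : S →ₐ[R] T),
      G.g a b *ᵥ (⇑a ∘ y) = ⇑b ∘ y := by
    intro y hy T _ _ a b
    let h := Algebra.TensorProduct.lift a b fun _ _ => Commute.all _ _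
    have h0 : ⇑(i2 R S) ∘ y = G.g (i1 R S) (i2 R S) *ᵥ (⇑(i1 R S) ∘ y) := sub_eq_zero.1 (LinearMap.mem_ker.1 hy)
    have h1 := congrArg (fun v => ⇑h.toRingHom ∘ v) h0
    simp only [map_mulVec'] at h1
    have ha : ⇑h ∘ (⇑(i1 R S) ∘ y) = ⇑a ∘ y := funext fun i => DFunLike.congr_fun (lift_i1 a b) (y i)
    have hb : ⇑h ∘ (⇑(i2 R S) ∘ y) = ⇑b ∘ y := funext fun i => DFunLike.congr_fun (lift_i2 a b) (y i)
    have hg : (G.g (i1 R S) (i2 R S)).map h = G.g a b := by rw [← G.natural, lift_i1, lift_i2]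
    rw [← ha, ← hb, ← hg]
    exact h1.symm
  have hcol : ∀ v : ι → S, G.proj *ᵥ v ∈ Submodule.span S (K : Set (ι → S)) := by
    intro v
    let w : ι → S ⊗[R] S := G.g (i1 R S) (i2 R S) *ᵥ (⇑(i1 R S) ∘ v)
    let z := (TensorProduct.piRight R R S (fun _ : ι => S)).symm w
    have hz : L.lTensor S z = 0 := by
      refine (TensorProduct.piRight R R S (fun _ : ι => S ⊗[R] S)).injective ?_
      have hA : ∀ f : S ⊗[R] S →ₐ[R] S ⊗[R] (S ⊗[R] S), ⇑f ∘ w =
          G.g (f.comp (i1 R S)) (f.comp (i2 R S)) *ᵥ (⇑(f.comp (i1 R S)) ∘ v) := fun f => by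
        rw [G.natural]; exact map_mulVec' f.toRingHom _ _
      rw [piRight_diff, LinearEquiv.apply_symm_apply, hA, hA, map_i1, map_i1, map_i2, map_i2, ← G.natural,
        Matrix.mulVec_mulVec, G.cocycle, sub_self, map_zero]
    obtain ⟨w', hw'⟩ := (Module.Flat.lTensor_exact S (LinearMap.exact_subtype_ker_map L) z).1 hz
    let μ : S ⊗[R] (ι → S) →ₗ[R] (ι → S) :=
      TensorProduct.lift (LinearMap.mk₂ R (fun (s : S) (y : ι → S) => s • y) (fun _ _ _ => add_smul _ _ _)
        (fun _ _ _ => smul_assoc _ _ _) (fun _ _ _ => smul_add _ _ _) (fun r s y => smul_comm s r y))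
    have hμ : ∀ z : S ⊗[R] (ι → S), μ z =
        ⇑(Algebra.TensorProduct.lift (AlgHom.id R S) (AlgHom.id R S) fun _ _ => Commute.all _ _) ∘
          TensorProduct.piRight R R S (fun _ : ι => S) z := by
      intro z
      induction z using TensorProduct.induction_on with
      | zero => funext i; simp
      | tmul s y => funext i; simp [μ]
      | add z w hz hw => rw [map_add, hz, hw, map_add]; funext i; simp
    have h1 : μ z = G.proj *ᵥ v := by
      rw [hμ, LinearEquiv.apply_symm_apply]
      refine (map_mulVec' (Algebra.TensorProduct.lift (AlgHom.id R S) (AlgHom.id R S)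
        fun _ _ => Commute.all _ _).toRingHom _ _).trans ?_
      congr 1
      · exact ((G.natural _ _ _).symm.trans (by rw [lift_i1, lift_i2]; rfl))
      · funext i; simp
    rw [← h1, ← hw']
    clear hw' h1 hz
    induction w' using TensorProduct.induction_on with
    | zero => simp
    | tmul s y => simpa [μ] using Submodule.smul_mem _ s (Submodule.subset_span y.2)
    | add z w hz hw => rw [map_add, map_add]; exact Submodule.add_mem _ hz hw
  classical
  choose t ht using fun j : ι => Submodule.mem_span_finite_of_mem_span (hcol (Pi.single j 1))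
  let U : Finset (ι → S) := Finset.univ.biUnion t
  have hU : ∀ j, G.proj *ᵥ Pi.single j 1 ∈ Submodule.span S (U : Set (ι → S)) := fun j =>
    Submodule.span_mono (Finset.coe_subset.2 (Finset.subset_biUnion_of_mem t (Finset.mem_univ j))) (ht j).2
  have hUK : ∀ y ∈ U, y ∈ K := fun y hy => by
    obtain ⟨j, -, hj⟩ := Finset.mem_biUnion.1 hy
    exact (ht j).1 hj
  let ev := (Finset.equivFin U).symm
  let col : Fin U.card → ι → S := fun i => (ev i).1
  have hr : Set.range col = (U : Set (ι → S)) := by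
    ext y
    exact ⟨fun ⟨i, hi⟩ => hi ▸ (ev i).2, fun hy => ⟨ev.symm ⟨y, hy⟩, congrArg Subtype.val (ev.apply_symm_apply _)⟩⟩
  choose Y hY using fun j => (Submodule.mem_span_range_iff_exists_fun S).1 (hr.symm ▸ hU j :
    G.proj *ᵥ Pi.single j 1 ∈ Submodule.span S (Set.range col))
  refine ⟨U.card, Matrix.of fun i l => col l i, Matrix.of fun l j => Y j l, ?_, fun {T} _ _ a b => ?_⟩
  · ext i j
    have := congrFun (hY j) i
    rw [Matrix.mulVec_single_one] at this
    simpa [Matrix.mul_apply, mul_comm] using this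
  · ext i l
    exact congrFun (hinv (col l) (hUK _ (ev l).2) a b) i

/-- A scalar quasi-inverse descends. -/
theorem exists_quasiInverse [Module.FaithfullyFlat R S] {κ κ' : Type} [Fintype κ] [Fintype κ'] [DecidableEq κ]
    [DecidableEq κ'] (A : Matrix κ κ' R) (X : Matrix κ' κ S)
    (hX : A.map (algebraMap R S) * X * A.map (algebraMap R S) = A.map (algebraMap R S)) :
    ∃ B : Matrix κ' κ R, A * B * A = A := by
  let L : Matrix κ' κ R →ₗ[R] Matrix κ κ' R :=
    { toFun := fun B => A * B * A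
      map_add' := fun _ _ => by rw [Matrix.mul_add, Matrix.add_mul]
      map_smul' := fun _ _ => by rw [Matrix.mul_smul, Matrix.smul_mul]; rfl }
  let ψ : Matrix κ κ' S →ₗ[R] S ⊗[R] Matrix κ κ' R :=
    { toFun := fun M => ∑ i, ∑ j, M i j ⊗ₜ Matrix.single i j (1 : R)
      map_add' := fun _ _ => by simp [add_tmul, Finset.sum_add_distrib]
      map_smul' := fun _ _ => by simp [smul_tmul', Finset.smul_sum] }
  have hψ : ∀ (s : S) (C : Matrix κ κ' R), ψ (s • C.map (algebraMap R S)) = s ⊗ₜ C := by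
    intro s C
    conv_rhs => rw [Matrix.matrix_eq_sum_single C, tmul_sum]
    refine Finset.sum_congr rfl fun i _ => ?_
    rw [tmul_sum]
    refine Finset.sum_congr rfl fun j _ => ?_
    show (s * algebraMap R S (C i j)) ⊗ₜ[R] _ = _
    rw [mul_comm, ← Algebra.smul_def, smul_tmul, Matrix.smul_single, smul_eq_mul, mul_one]
  refine mem_range_of_tmul L A (∑ i, ∑ j, X i j ⊗ₜ Matrix.single i j (1 : R)) ?_
  rw [← hψ 1 A, one_smul, ← hX]
  conv_rhs => rw [Matrix.matrix_eq_sum_single X]
  simp only [map_sum, LinearMap.lTensor_tmul, Matrix.mul_sum, Matrix.sum_mul]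
  refine Finset.sum_congr rfl fun i _ => Finset.sum_congr rfl fun j _ => ?_
  rw [← hψ]
  congr 1
  show X i j • (A * Matrix.single i j (1 : R) * A).map (algebraMap R S) = _
  have hs : (Matrix.single i j (1 : R)).map (algebraMap R S) = Matrix.single i j (1 : S) := by
    ext i' j'
    simp only [Matrix.map_apply, Matrix.single_apply]
    split <;> simp
  rw [Matrix.map_mul, Matrix.map_mul, hs, ← Matrix.smul_mul, ← Matrix.mul_smul, Matrix.smul_single, smul_eq_mul, mul_one]

end Groth.Agent.MatDesc
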