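import Groth.Agent.RingDesc.Elem
import Mathlib.Algebra.Category.ModuleCat.Descent
import Mathlib.LinearAlgebra.TensorProduct.Tower
import Mathlib.RingTheory.Flat.Basic
import Mathlib.RingTheory.TensorProduct.Maps

/-!
# The coaction of a descent datum
-/

set_option autoImplicit false
set_option backward.isDefEq.respectTransparency false
set_option backward.isDefEq.respectTransparency.types false

universe u

open CategoryTheory Opposite TensorProduct

namespace Groth.Agent.RingDesc

open ModuleCat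

variable {R₀ S₀ : CommRingCat.{u}} [Algebra R₀ S₀]
  (D : Desc.ringModPF.{u}.DescentData (fun _ : PUnit.{u + 1} => (CommRingCat.ofHom (algebraMap R₀ S₀)).op))

set_option quotPrecheck false

local notation "φ" => CommRingCat.ofHom (algebraMap R₀ S₀)
local notation "N" => (obj (CommRingCat.ofHom (algebraMap R₀ S₀)) D)

noncomputable instance : Module R₀ N := Module.compHom _ (algebraMap R₀ S₀)

theorem smul_def (r : R₀) (n : N) : r • n = algebraMap R₀ S₀ r • n := rfl

instance : IsScalarTower R₀ S₀ N :=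
  ⟨fun r s n => by rw [Algebra.smul_def, mul_smul, smul_def]⟩

variable {D} in
theorem tmul_eq {T : CommRingCat.{u}} (b : S₀ ⟶ T) (t : T) (n : N) :
    letI := b.hom.toAlgebra
    (show (extendScalars b.hom).obj N from ((t ⊗ₜ[S₀] n : T ⊗[S₀] N))) = t • one b N n := by
  letI := b.hom.toAlgebra
  show (t ⊗ₜ[S₀] n : T ⊗[S₀] N) = _
  erw [ExtendScalars.smul_tmul, mul_one]

theorem induct {T : CommRingCat.{u}} (b : S₀ ⟶ T) {motive : (extendScalars b.hom).obj N → Prop}
    (zero : motive 0) (gen : ∀ (t : T) (n : N), motive (t • one b N n)) (add : ∀ x y, motive x → motive y → motive (x + y))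
    (x : (extendScalars b.hom).obj N) : motive x := by
  letI := b.hom.toAlgebra
  induction x using TensorProduct.induction_on with
  | zero => exact zero
  | tmul t n =>
    have := tmul_eq b t n
    exact (congrArg motive this).mpr (gen t n)
  | add x y hx hy => exact add x y hx hy

/-- `s ⊗ n ↦ a(s) • (1 ⊗ n)`. -/
noncomputable def theta {T : CommRingCat.{u}} (a b : S₀ ⟶ T) (h : φ ≫ a = φ ≫ b) :
    S₀ ⊗[R₀] N →+ (extendScalars b.hom).obj N :=
  TensorProduct.liftAddHom
    (AddMonoidHom.mk' (fun s => AddMonoidHom.mk' (fun n => a.hom s • one b N n)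
      (fun n n' => by rw [one_add, smul_add])) fun s s' => by ext n; simp [add_smul])
    fun r s n => by
      simp only [AddMonoidHom.mk'_apply]
      rw [smul_def, one_smul', smul_smul, Algebra.smul_def, map_mul,
        show a.hom (algebraMap R₀ S₀ r) = b.hom (algebraMap R₀ S₀ r) from
          congrArg (fun f : R₀ ⟶ T => f.hom r) h, mul_comm]

theorem theta_tmul {T : CommRingCat.{u}} (a b : S₀ ⟶ T) (h : φ ≫ a = φ ≫ b) (s : S₀) (n : N) :
    theta D a b h (s ⊗ₜ n) = a.hom s • one b N n := rfl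

/-- `S ⊗ S`. -/
noncomputable abbrev U : CommRingCat.{u} := CommRingCat.of (S₀ ⊗[R₀] S₀)

/-- First inclusion. -/
noncomputable abbrev i₁ : S₀ ⟶ U (R₀ := R₀) (S₀ := S₀) := CommRingCat.ofHom Algebra.TensorProduct.includeLeftRingHom

/-- Second inclusion. -/
noncomputable abbrev i₂ : S₀ ⟶ U (R₀ := R₀) (S₀ := S₀) :=
  CommRingCat.ofHom (Algebra.TensorProduct.includeRight (R := R₀) (A := S₀) (B := S₀)).toRingHom

theorem i_cond : φ ≫ i₁ = φ ≫ (i₂ : S₀ ⟶ U (R₀ := R₀) (S₀ := S₀)) := by
  ext r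
  show (algebraMap R₀ S₀ r) ⊗ₜ[R₀] (1 : S₀) = (1 : S₀) ⊗ₜ[R₀] algebraMap R₀ S₀ r
  rw [Algebra.algebraMap_eq_smul_one, TensorProduct.smul_tmul]

/-- Inverse of `theta i₁ i₂`. -/
noncomputable def kappa : (extendScalars (i₂ (R₀ := R₀) (S₀ := S₀)).hom).obj N →+ S₀ ⊗[R₀] N :=
  letI := (i₂ (R₀ := R₀) (S₀ := S₀)).hom.toAlgebra
  TensorProduct.liftAddHom
    (AddMonoidHom.mk' (fun u : U (R₀ := R₀) (S₀ := S₀) => AddMonoidHom.mk'
        (fun n : N => TensorProduct.map (LinearMap.id : S₀ →ₗ[R₀] S₀) ((LinearMap.toSpanSingleton S₀ N n).restrictScalars R₀) u)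
      (fun n n' => by
        rw [LinearMap.toSpanSingleton_add, LinearMap.restrictScalars_add, TensorProduct.map_add_right, LinearMap.add_apply]))
      fun u u' => by ext n; simp)
    fun c u n => by
      simp only [AddMonoidHom.mk'_apply]
      induction u using TensorProduct.induction_on with
      | zero => simp
      | tmul s s' =>
        show TensorProduct.map _ _ (((1 : S₀) ⊗ₜ[R₀] c) * (s ⊗ₜ[R₀] s')) = _
        simp [Algebra.TensorProduct.tmul_mul_tmul, mul_smul, smul_comm c s']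
      | add x y hx hy => rw [smul_add, map_add, map_add, hx, hy]

theorem kappa_gen (s s' : S₀) (n : N) :
    kappa D ((s ⊗ₜ[R₀] s' : U (R₀ := R₀) (S₀ := S₀)) • one i₂ N n) = s ⊗ₜ (s' • n) := by
  exact (congrArg (kappa D) (tmul_eq (D := D) (i₂ (R₀ := R₀) (S₀ := S₀)) _ n).symm).trans rfl

theorem theta_kappa (x : (extendScalars (i₂ (R₀ := R₀) (S₀ := S₀)).hom).obj N) :
    theta D i₁ i₂ i_cond (kappa D x) = x := by
  induction x using induct D with
  | zero => rw [map_zero]; exact map_zero _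
  | gen t n =>
    induction t using TensorProduct.induction_on with
    | zero => rw [zero_smul, map_zero]; exact map_zero _
    | tmul s s' =>
      rw [kappa_gen, theta_tmul, one_smul', smul_smul]
      congr 1
      show (s ⊗ₜ[R₀] (1 : S₀)) * ((1 : S₀) ⊗ₜ[R₀] s') = _
      simp
    | add a b ha hb => rw [add_smul, map_add, map_add, ha, hb]
  | add a b ha hb => rw [map_add, map_add, ha, hb]

theorem kappa_smul (s : S₀) (x : (extendScalars (i₂ (R₀ := R₀) (S₀ := S₀)).hom).obj N) :
    kappa D ((i₁ (R₀ := R₀) (S₀ := S₀)).hom s • x) = s • kappa D x := by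
  induction x using induct D with
  | zero => simp
  | gen t n =>
    induction t using TensorProduct.induction_on with
    | zero => simp
    | tmul a a' =>
      rw [smul_smul]
      show kappa D (((s ⊗ₜ[R₀] (1 : S₀)) * (a ⊗ₜ[R₀] a') : U (R₀ := R₀) (S₀ := S₀)) • _) = _
      rw [Algebra.TensorProduct.tmul_mul_tmul, kappa_gen, kappa_gen, one_mul, TensorProduct.smul_tmul', smul_eq_mul]
    | add a b ha hb => rw [add_smul, smul_add, map_add, map_add, ha, hb, smul_add]
  | add a b ha hb => rw [smul_add, map_add, map_add, ha, hb, smul_add]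

/-- The coaction. -/
noncomputable def rho : N →ₗ[S₀] S₀ ⊗[R₀] N where
  toFun n := kappa D (P φ D i₁ i₂ i_cond n)
  map_add' n n' := by rw [P_add, map_add]
  map_smul' s n := by rw [P_smul, kappa_smul]; rfl

theorem P_eq_aux {T : CommRingCat.{u}} (g : U (R₀ := R₀) (S₀ := S₀) ⟶ T) (n : N)
    (h : φ ≫ i₁ ≫ g = φ ≫ i₂ ≫ g) : P φ D (i₁ ≫ g) (i₂ ≫ g) h n = theta D (i₁ ≫ g) (i₂ ≫ g) h (rho D n) := by
  rw [P_natural φ D i₁ i₂ i_cond g n]
  conv_lhs => rw [← theta_kappa D (P φ D i₁ i₂ i_cond n)]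
  show push φ D i₂ g (theta D i₁ i₂ i_cond (rho D n)) = _
  induction rho D n using TensorProduct.induction_on with
  | zero =>
    rw [map_zero, map_zero]
    have := push_add φ D i₂ g 0 0
    rw [add_zero] at this
    simpa using this
  | tmul s m => rw [theta_tmul, theta_tmul, push_smul, push_one]; rfl
  | add a b ha hb => rw [map_add, map_add, push_add, ha, hb]

theorem P_eq_aux' {T : CommRingCat.{u}} (g : U (R₀ := R₀) (S₀ := S₀) ⟶ T) (a b : S₀ ⟶ T) (ha : i₁ ≫ g = a)
    (hb : i₂ ≫ g = b) (h : φ ≫ a = φ ≫ b) (n : N) : P φ D a b h n = theta D a b h (rho D n) := by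
  subst ha hb; exact P_eq_aux D g n h

theorem P_eq {T : CommRingCat.{u}} (a b : S₀ ⟶ T) (h : φ ≫ a = φ ≫ b) (n : N) :
    P φ D a b h n = theta D a b h (rho D n) := by
  letI := (φ ≫ a).hom.toAlgebra
  let a' : S₀ →ₐ[R₀] T := { a.hom with commutes' := fun r => rfl }
  let b' : S₀ →ₐ[R₀] T := { b.hom with commutes' := fun r => (congrArg (fun f : R₀ ⟶ T => f.hom r) h).symm }
  let g : U (R₀ := R₀) (S₀ := S₀) ⟶ T :=
    CommRingCat.ofHom (Algebra.TensorProduct.lift a' b' fun _ _ => Commute.all _ _).toRingHom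
  refine P_eq_aux' D g a b ?_ ?_ h n
  · ext s
    show (Algebra.TensorProduct.lift a' b' fun _ _ => Commute.all _ _) (s ⊗ₜ 1) = a.hom s
    simp [a']
  · ext s
    show (Algebra.TensorProduct.lift a' b' fun _ _ => Commute.all _ _) (1 ⊗ₜ s) = b.hom s
    simp [b']

end Groth.Agent.RingDesc
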