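import Groth.Agent.RingDesc.Witt
import Mathlib.LinearAlgebra.Matrix.ToLin

/-!
# Matrices of descent data of `W`-modules, and an effectivity criterion
-/

set_option autoImplicit false
set_option backward.isDefEq.respectTransparency false
set_option backward.isDefEq.respectTransparency.types false

universe u

open CategoryTheory Opposite TensorProduct Matrix

namespace Groth.Agent.RingDesc

open ModuleCat

section General

variable {C : Type*} [Category C] (F : Pseudofunctor (LocallyDiscrete Cᵒᵖ) Cat.{u, u + 1}) {X S : C} (f : X ⟶ S)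

theorem dd_pullHom (D : F.DescentData (fun _ : PUnit.{u + 1} => f)) {Y Y' : C} (g : Y' ⟶ Y) (q : Y ⟶ S)
    (q' : Y' ⟶ S) (hq : g ≫ q = q') (a b : Y ⟶ X) (a' b' : Y' ⟶ X) (ha : a ≫ f = q) (hb : b ≫ f = q)
    (ha' : g ≫ a = a') (hb' : g ≫ b = b') (hA : a.op.toLoc ≫ g.op.toLoc = a'.op.toLoc)
    (hB : b.op.toLoc ≫ g.op.toLoc = b'.op.toLoc) :
    ((Cat.Hom.toNatIso (F.mapComp' a.op.toLoc g.op.toLoc a'.op.toLoc hA)).app (D.obj PUnit.unit)).hom ≫
      (F.map g.op.toLoc).toFunctor.map (D.hom q (i₁ := PUnit.unit) (i₂ := PUnit.unit) a b ha hb) ≫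
        ((Cat.Hom.toNatIso (F.mapComp' b.op.toLoc g.op.toLoc b'.op.toLoc hB)).app (D.obj PUnit.unit)).inv =
      D.hom q' (i₁ := PUnit.unit) (i₂ := PUnit.unit) a' b'
        (by rw [← ha', Category.assoc, ha, hq]) (by rw [← hb', Category.assoc, hb, hq]) :=
  D.pullHom_hom g q q' hq (i₁ := PUnit.unit) (i₂ := PUnit.unit) a b ha hb a' b' ha' hb'

theorem toDD_iso (D : F.DescentData (fun _ : PUnit.{u + 1} => f)) (M : F.obj (.mk (op S)))
    (i : (F.map f.op.toLoc).toFunctor.obj M ≅ D.obj PUnit.unit)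
    (h : ∀ (Y : C) (q : Y ⟶ S) (a b : Y ⟶ X) (ha : a ≫ f = q) (hb : b ≫ f = q)
      (hA : f.op.toLoc ≫ a.op.toLoc = q.op.toLoc) (hB : f.op.toLoc ≫ b.op.toLoc = q.op.toLoc),
      (F.map a.op.toLoc).toFunctor.map i.hom ≫ D.hom q (i₁ := PUnit.unit) (i₂ := PUnit.unit) a b ha hb =
        (((Cat.Hom.toNatIso (F.mapComp' f.op.toLoc a.op.toLoc q.op.toLoc hA)).app M).inv ≫
          ((Cat.Hom.toNatIso (F.mapComp' f.op.toLoc b.op.toLoc q.op.toLoc hB)).app M).hom) ≫
          (F.map b.op.toLoc).toFunctor.map i.hom) :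
    Nonempty ((F.toDescentData (fun _ : PUnit.{u + 1} => f)).obj M ≅ D) :=
  ⟨Pseudofunctor.DescentData.isoMk (fun _ => i) (fun Y q _ _ a b ha hb =>
    h Y q a b ha hb (by rw [← ha]; rfl) (by rw [← hb]; rfl))⟩

end General

theorem exists_lift_one {A B : CommRingCat.{u}} (g : A ⟶ B) (M : ModuleCat.{u} A) (N : ModuleCat.{u} B)
    (φ : M →+ N) (hφ : ∀ (c : A) (m : M), φ (c • m) = g.hom c • φ m) :
    ∃ F : (extendScalars g.hom).obj M ⟶ N, ∀ m, F (one g M m) = φ m := by
  let φ' : M ⟶ (restrictScalars g.hom).obj N :=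
    ModuleCat.ofHom (Y := (restrictScalars g.hom).obj N)
      { toFun := φ
        map_add' := map_add φ
        map_smul' := hφ }
  refine ⟨((extendRestrictScalarsAdj g.hom).homEquiv M N).symm φ', fun m => ?_⟩
  have h := congrArg (fun F : M ⟶ (restrictScalars g.hom).obj N => F m)
    (((extendRestrictScalarsAdj g.hom).homEquiv M N).apply_symm_apply φ')
  exact h

variable {W : CommRingCat.{u} ⥤ CommRingCat.{u}} {R₀ S₀ : CommRingCat.{u}} (f : R₀ ⟶ S₀)
  (D : (wpf W).DescentData (fun _ : PUnit.{u + 1} => f.op))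

/-- The underlying module. -/
noncomputable abbrev wobj : ModuleCat.{u} (W.obj S₀) := D.obj PUnit.unit

/-- The gluing, typed. -/
noncomputable def gl {T : CommRingCat.{u}} (q : R₀ ⟶ T) (a b : S₀ ⟶ T) (ha : f ≫ a = q) (hb : f ≫ b = q) :
    (extendScalars (W.map a).hom).obj (wobj f D) ⟶ (extendScalars (W.map b).hom).obj (wobj f D) :=
  D.hom q.op (i₁ := PUnit.unit) (i₂ := PUnit.unit) a.op b.op (congrArg Quiver.Hom.op ha) (congrArg Quiver.Hom.op hb)

theorem gl_self {T : CommRingCat.{u}} (q : R₀ ⟶ T) (a : S₀ ⟶ T) (ha : f ≫ a = q) : gl f D q a a ha ha = 𝟙 _ :=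
  D.hom_self q.op a.op (congrArg Quiver.Hom.op ha)

theorem gl_comp {T : CommRingCat.{u}} (q : R₀ ⟶ T) (a b c : S₀ ⟶ T) (ha : f ≫ a = q) (hb : f ≫ b = q)
    (hc : f ≫ c = q) : gl f D q a b ha hb ≫ gl f D q b c hb hc = gl f D q a c ha hc :=
  D.hom_comp q.op a.op b.op c.op (congrArg Quiver.Hom.op ha) (congrArg Quiver.Hom.op hb) (congrArg Quiver.Hom.op hc)

theorem gl_natural {T T' : CommRingCat.{u}} (q : R₀ ⟶ T) (a b : S₀ ⟶ T) (ha : f ≫ a = q) (hb : f ≫ b = q)
    (g : T ⟶ T') (q' : R₀ ⟶ T') (hq : q ≫ g = q') (a' b' : S₀ ⟶ T') (ha' : a ≫ g = a') (hb' : b ≫ g = b')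
    (hA : a.op.op.toLoc ≫ g.op.op.toLoc = a'.op.op.toLoc) (hB : b.op.op.toLoc ≫ g.op.op.toLoc = b'.op.op.toLoc)
    (h₁ : f ≫ a' = q') (h₂ : f ≫ b' = q') :
    (wcmp W a g a' hA (wobj f D)).hom ≫ (extendScalars (W.map g).hom).map (gl f D q a b ha hb) ≫
      (wcmp W b g b' hB (wobj f D)).inv = gl f D q' a' b' h₁ h₂ :=
  dd_pullHom (wpf W) f.op D g.op q.op q'.op (congrArg Quiver.Hom.op hq) a.op b.op a'.op b'.op
    (congrArg Quiver.Hom.op ha) (congrArg Quiver.Hom.op hb) (congrArg Quiver.Hom.op ha') (congrArg Quiver.Hom.op hb')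
    hA hB

variable {r : ℕ} (l : Fin r → (wobj f D →ₗ[W.obj S₀] W.obj S₀)) (el : Fin r → wobj f D)

/-- The matrix of the gluing. -/
noncomputable def gmat {T : CommRingCat.{u}} (q : R₀ ⟶ T) (a b : S₀ ⟶ T) (ha : f ≫ a = q) (hb : f ≫ b = q) :
    Matrix (Fin r) (Fin r) (W.obj T) :=
  Matrix.of fun i j => coord (W.map b) (l i) (gl f D q a b ha hb (one (W.map a) _ (el j)))

theorem gl_one (hle : ∀ z, ∑ j, l j z • el j = z) {T : CommRingCat.{u}} (q : R₀ ⟶ T) (a b : S₀ ⟶ T)
    (ha : f ≫ a = q) (hb : f ≫ b = q) (j : Fin r) :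
    gl f D q a b ha hb (one (W.map a) _ (el j)) = ∑ i, gmat f D l el q a b ha hb i j • one (W.map b) _ (el i) :=
  (coords_sum b l el hle _).symm

theorem one_sum {A B : CommRingCat.{u}} (g : A ⟶ B) (M : ModuleCat.{u} A) {ι : Type*} (s : Finset ι) (v : ι → M) :
    one g M (∑ i ∈ s, v i) = ∑ i ∈ s, one g M (v i) :=
  map_sum (AddMonoidHom.mk' (one g M) (one_add _ _)) _ _

theorem coord_one' {A B : CommRingCat.{u}} (g : A ⟶ B) {N : ModuleCat.{u} A} (lam : N →ₗ[A] A) (z : N) :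
    coord g lam (one g N z) = g.hom (lam z) := by
  rw [← _root_.one_smul B (one g N z), coord_gen, one_mul]

theorem gmat_self {T : CommRingCat.{u}} (q : R₀ ⟶ T) (a : S₀ ⟶ T) (ha : f ≫ a = q) (i j : Fin r) :
    gmat f D l el q a a ha ha i j = (W.map a).hom (l i (el j)) := by
  rw [gmat, Matrix.of_apply, gl_self, ModuleCat.id_apply, coord_one']

theorem gmat_cocycle (hle : ∀ z, ∑ j, l j z • el j = z) {T : CommRingCat.{u}} (q : R₀ ⟶ T) (a b c : S₀ ⟶ T)
    (ha : f ≫ a = q) (hb : f ≫ b = q) (hc : f ≫ c = q) :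
    gmat f D l el q b c hb hc * gmat f D l el q a b ha hb = gmat f D l el q a c ha hc := by
  ext k j
  have h : gmat f D l el q a c ha hc k j =
      coord (W.map c) (l k) (gl f D q b c hb hc (gl f D q a b ha hb (one (W.map a) _ (el j)))) := by
    rw [gmat, Matrix.of_apply, ← gl_comp f D q a b c ha hb hc, ModuleCat.comp_apply]
  rw [h, gl_one f D l el hle q a b ha hb, map_sum, map_sum, Matrix.mul_apply]
  refine Finset.sum_congr rfl fun i _ => ?_
  rw [map_smul, coord_smul, mul_comm]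
  rfl

theorem gmat_natural (hle : ∀ z, ∑ j, l j z • el j = z) {T T' : CommRingCat.{u}} (q : R₀ ⟶ T) (a b : S₀ ⟶ T)
    (ha : f ≫ a = q) (hb : f ≫ b = q) (g : T ⟶ T') (q' : R₀ ⟶ T') (hq : q ≫ g = q') (a' b' : S₀ ⟶ T')
    (ha' : a ≫ g = a') (hb' : b ≫ g = b') (h₁ : f ≫ a' = q') (h₂ : f ≫ b' = q') :
    gmat f D l el q' a' b' h₁ h₂ = (gmat f D l el q a b ha hb).map (W.map g).hom := by
  ext k j
  rw [Matrix.map_apply]
  have hA : a.op.op.toLoc ≫ g.op.op.toLoc = a'.op.op.toLoc := by rw [← ha']; rfl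
  have hB : b.op.op.toLoc ≫ g.op.op.toLoc = b'.op.op.toLoc := by rw [← hb']; rfl
  conv_lhs => rw [gmat, Matrix.of_apply, ← gl_natural f D q a b ha hb g q' hq a' b' ha' hb' hA hB h₁ h₂]
  rw [ModuleCat.comp_apply, ModuleCat.comp_apply, wcomp_hom_one W a g a' ha' hA, map_one',
    gl_one f D l el hle q a b ha hb, one_sum, map_sum, map_sum]
  have hk : gmat f D l el q a b ha hb k j =
      ∑ i, gmat f D l el q a b ha hb i j * (W.map b).hom (l k (el i)) := by
    conv_lhs => rw [gmat, Matrix.of_apply, gl_one f D l el hle q a b ha hb, map_sum]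
    exact Finset.sum_congr rfl fun i _ => by rw [coord_smul, coord_one']
  conv_rhs => rw [hk, map_sum]
  refine Finset.sum_congr rfl fun i _ => ?_
  rw [one_smul', map_smul, wcomp_inv_one b g b' hb', coord_smul, coord_one', map_mul]
  congr 1
  rw [← hb', W.map_comp]
  rfl

theorem exists_matrix_module {A : CommRingCat.{u}} {k : ℕ} (E : Matrix (Fin k) (Fin k) A) (hEE : E * E = E) :
    ∃ (M : ModuleCat.{u} A) (inc : M →ₗ[A] (Fin k → A)) (col : Fin k → M),
      Module.Finite A M ∧ Module.Projective A M ∧ Function.Injective inc ∧ (∀ m, E *ᵥ inc m = inc m) ∧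
        ∀ i, inc (col i) = E *ᵥ Pi.single i 1 := by
  let P : (Fin k → A) →ₗ[A] (Fin k → A) := E.mulVecLin
  have hfix : ∀ m : LinearMap.range P, E *ᵥ m.1 = m.1 := fun m => by
    obtain ⟨v, hv⟩ := m.2
    rw [← hv]
    show E *ᵥ (E *ᵥ v) = E *ᵥ v
    rw [Matrix.mulVec_mulVec, hEE]
  exact ⟨ModuleCat.of A (LinearMap.range P), (LinearMap.range P).subtype, fun i => ⟨E *ᵥ Pi.single i 1, ⟨_, rfl⟩⟩,
    Module.Finite.range P,
    Module.Projective.of_split (LinearMap.range P).subtype P.rangeRestrict (LinearMap.ext fun m => Subtype.ext (hfix m)),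
    Subtype.val_injective, hfix, fun _ => rfl⟩

variable {k : ℕ} {E : Matrix (Fin k) (Fin k) (W.obj R₀)} {V : Matrix (Fin r) (Fin k) (W.obj S₀)}
  {M : ModuleCat.{u} (W.obj R₀)} (inc : M →ₗ[W.obj R₀] (Fin k → W.obj R₀))

/-- The image of a vector. -/
noncomputable def vimg (V : Matrix (Fin r) (Fin k) (W.obj S₀)) (el : Fin r → wobj f D) (m : M) : wobj f D :=
  ∑ j, (V *ᵥ (⇑(W.map f).hom ∘ inc m)) j • el j

theorem exists_iso (hle : ∀ z, ∑ j, l j z • el j = z) (U : Matrix (Fin k) (Fin r) (W.obj S₀))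
    (hUV : U * V = E.map (W.map f).hom) (hVU : V * U = Matrix.of fun i j => l i (el j))
    (heV : (Matrix.of fun i j => l i (el j)) * V = V) (col : Fin k → M) (hinj : Function.Injective inc)
    (hfix : ∀ m, E *ᵥ inc m = inc m) (hcol : ∀ i, inc (col i) = E *ᵥ Pi.single i 1) :
    ∃ iso : (extendScalars (W.map f).hom).obj M ≅ wobj f D, ∀ m, iso.hom (one (W.map f) M m) = vimg f D inc V el m := by
  let φ₀ : M →+ wobj f D := AddMonoidHom.mk' (vimg f D inc V el) (fun x y => by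
    have hxy : ⇑(W.map f).hom ∘ inc (x + y) = ⇑(W.map f).hom ∘ inc x + ⇑(W.map f).hom ∘ inc y := by
      funext i
      simp [map_add]
    rw [vimg, vimg, vimg, ← Finset.sum_add_distrib]
    refine Finset.sum_congr rfl fun j _ => ?_
    rw [hxy, Matrix.mulVec_add, Pi.add_apply, add_smul])
  obtain ⟨φ, hφ⟩ := exists_lift_one (W.map f) M (wobj f D) φ₀ (fun c m => by
    show vimg f D inc V el (c • m) = (W.map f).hom c • vimg f D inc V el m
    rw [vimg, vimg, map_smul, show ⇑(W.map f).hom ∘ (c • inc m) = (W.map f).hom c • (⇑(W.map f).hom ∘ inc m) from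
      funext fun i => map_mul (W.map f).hom _ _, Matrix.mulVec_smul, Finset.smul_sum]
    exact Finset.sum_congr rfl fun j _ => by rw [Pi.smul_apply, smul_eq_mul, mul_smul])
  let ψ : wobj f D →ₗ[W.obj S₀] (extendScalars (W.map f).hom).obj M :=
    ∑ i, (∑ j, U i j • l j).smulRight (one (W.map f) M (col i))
  have hψ : ∀ y, ψ y = ∑ i, (U *ᵥ fun j => l j y) i • one (W.map f) M (col i) := fun y => by
    simp [ψ, Matrix.mulVec, dotProduct]
  have hl : ∀ (c : Fin r → W.obj S₀) (j : Fin r), l j (∑ i, c i • el i) = (Matrix.of (fun i j => l i (el j)) *ᵥ c) j :=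
    fun c j => by simp [Matrix.mulVec, dotProduct, mul_comm]
  have hφcol : ∀ i, φ (one (W.map f) M (col i)) = ∑ j, ((V * E.map (W.map f).hom) j i) • el j := fun i => by
    rw [hφ]
    show vimg f D inc V el (col i) = _
    rw [vimg, hcol]
    refine Finset.sum_congr rfl fun j _ => ?_
    congr 1
    simp [Matrix.mul_apply, Matrix.mulVec, dotProduct]
  have h1 : ∀ y, φ (ψ y) = y := fun y => by
    rw [hψ, map_sum]
    simp only [map_smul, hφcol, Finset.smul_sum, smul_smul]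
    rw [Finset.sum_comm]
    simp only [← Finset.sum_smul]
    conv_rhs => rw [← hle y]
    refine Finset.sum_congr rfl fun j _ => congrArg (· • el j) ?_
    have h2 : ((V * E.map (W.map f).hom) *ᵥ (U *ᵥ fun j => l j y)) j = l j y := by
      rw [Matrix.mulVec_mulVec, ← hUV, ← Matrix.mul_assoc V, hVU, heV, hVU]
      rw [← hl, hle]
    conv_rhs => rw [← h2]
    exact Finset.sum_congr rfl fun i _ => mul_comm _ _
  have h2 : ∀ m : M, ψ (φ (one (W.map f) M m)) = one (W.map f) M m := fun m => by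
    rw [hψ, hφ]
    have e1 : (fun j => l j (φ₀ m)) = V *ᵥ (⇑(W.map f).hom ∘ inc m) := funext fun j => by
      refine (hl _ j).trans ?_
      rw [Matrix.mulVec_mulVec, heV]
    rw [e1, Matrix.mulVec_mulVec, hUV]
    have e2 : ∀ i, (E.map (W.map f).hom *ᵥ (⇑(W.map f).hom ∘ inc m)) i = (W.map f).hom ((E *ᵥ inc m) i) :=
      fun i => (RingHom.map_mulVec (W.map f).hom E _ i).symm
    simp only [e2, ← one_smul', ← one_sum]
    congr 1
    refine hinj ?_
    conv_rhs => rw [← hfix m]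
    conv_lhs => rw [hfix m, map_sum]
    funext i
    simp [hcol, Matrix.mulVec, dotProduct, mul_comm]
  exact ⟨{ hom := φ
           inv := ModuleCat.ofHom ψ
           hom_inv_id := ext_one (W.map f) fun m => h2 m
           inv_hom_id := ModuleCat.hom_ext (LinearMap.ext h1) }, hφ⟩

theorem iso_comm (hle : ∀ z, ∑ j, l j z • el j = z)
    (hV : ∀ {T : CommRingCat.{u}} (q : R₀ ⟶ T) (a b : S₀ ⟶ T) (ha : f ≫ a = q) (hb : f ≫ b = q),
      gmat f D l el q a b ha hb * V.map (W.map a).hom = V.map (W.map b).hom)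
    (φ : (extendScalars (W.map f).hom).obj M ⟶ wobj f D) (hφ : ∀ m, φ (one (W.map f) M m) = vimg f D inc V el m)
    {T : CommRingCat.{u}} (q : R₀ ⟶ T) (a b : S₀ ⟶ T) (ha : f ≫ a = q) (hb : f ≫ b = q)
    (hA : f.op.op.toLoc ≫ a.op.op.toLoc = q.op.op.toLoc) (hB : f.op.op.toLoc ≫ b.op.op.toLoc = q.op.op.toLoc) :
    (extendScalars (W.map a).hom).map φ ≫ gl f D q a b ha hb =
      ((wcmp W f a q hA M).inv ≫ (wcmp W f b q hB M).hom) ≫ (extendScalars (W.map b).hom).map φ := by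
  refine ext_one (W.map a) fun x => ?_
  induction x using induct' (W.map f) M with
  | zero => simp only [one_zero, map_zero]
  | add x y hx hy => simp only [one_add, map_add, hx, hy]
  | gen s m =>
    rw [one_smul', map_smul, map_smul]
    congr 1
    rw [ModuleCat.comp_apply, map_one', ModuleCat.comp_apply, wcmp_one_aux f a b q ha hb hA hB, map_one', hφ]
    rw [vimg, one_sum, one_sum, map_sum]
    simp only [one_smul', map_smul, gl_one f D l el hle q a b ha hb, Finset.smul_sum, smul_smul]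
    rw [Finset.sum_comm]
    simp only [← Finset.sum_smul]
    refine Finset.sum_congr rfl fun i _ => congrArg (· • one (W.map b) _ (el i)) ?_
    have hq : ⇑(W.map a).hom ∘ (⇑(W.map f).hom ∘ inc m) = ⇑(W.map b).hom ∘ (⇑(W.map f).hom ∘ inc m) :=
      funext fun i => by
        have := congrArg (fun F : R₀ ⟶ T => (W.map F).hom (inc m i)) (ha.trans hb.symm)
        simpa using this
    rw [RingHom.map_mulVec, ← hq, ← hV q a b ha hb, ← Matrix.mulVec_mulVec]
    simp only [Matrix.mulVec, dotProduct, Matrix.map_apply, map_sum, map_mul, Function.comp_apply, mul_comm]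

theorem toDD_iso_of (i : (extendScalars (W.map f).hom).obj M ≅ wobj f D)
    (h : ∀ {T : CommRingCat.{u}} (q : R₀ ⟶ T) (a b : S₀ ⟶ T) (ha : f ≫ a = q) (hb : f ≫ b = q)
      (hA : f.op.op.toLoc ≫ a.op.op.toLoc = q.op.op.toLoc) (hB : f.op.op.toLoc ≫ b.op.op.toLoc = q.op.op.toLoc),
      (extendScalars (W.map a).hom).map i.hom ≫ gl f D q a b ha hb =
        ((wcmp W f a q hA M).inv ≫ (wcmp W f b q hB M).hom) ≫ (extendScalars (W.map b).hom).map i.hom) :
    Nonempty ((wToDD W f).obj M ≅ D) :=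
  toDD_iso (wpf W) f.op D M i fun Y q a b ha hb hA hB =>
    h q.unop a.unop b.unop (congrArg Quiver.Hom.unop ha) (congrArg Quiver.Hom.unop hb) hA hB

/-- The effectivity criterion. -/
theorem effective_of_matrices (hle : ∀ z, ∑ j, l j z • el j = z) {k : ℕ} (E : Matrix (Fin k) (Fin k) (W.obj R₀))
    (V : Matrix (Fin r) (Fin k) (W.obj S₀)) (U : Matrix (Fin k) (Fin r) (W.obj S₀)) (hEE : E * E = E)
    (hUV : U * V = E.map (W.map f).hom) (hVU : V * U = Matrix.of fun i j => l i (el j))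
    (hV : ∀ {T : CommRingCat.{u}} (q : R₀ ⟶ T) (a b : S₀ ⟶ T) (ha : f ≫ a = q) (hb : f ≫ b = q),
      gmat f D l el q a b ha hb * V.map (W.map a).hom = V.map (W.map b).hom) :
    ∃ M : ModuleCat.{u} (W.obj R₀), Module.Finite (W.obj R₀) M ∧ Module.Projective (W.obj R₀) M ∧
      Nonempty ((wToDD W f).obj M ≅ D) := by
  have heV : (Matrix.of fun i j => l i (el j)) * V = V := by
    have h := hV f (𝟙 S₀) (𝟙 S₀) (Category.comp_id f) (Category.comp_id f)
    have hm : ∀ M : Matrix (Fin r) (Fin k) (W.obj S₀), M.map (W.map (𝟙 S₀)).hom = M := fun M =>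
      Matrix.ext fun i j => by simp
    rw [hm] at h
    conv_rhs => rw [← h]
    congr 1
    ext i j
    rw [gmat_self]; simp
  obtain ⟨M, inc, col, hfin, hproj, hinj, hfix, hcol⟩ := exists_matrix_module E hEE
  obtain ⟨iso, hiso⟩ := exists_iso f D l el inc hle U hUV hVU heV col hinj hfix hcol
  exact ⟨M, hfin, hproj, toDD_iso_of f D iso fun q a b ha hb hA hB =>
    iso_comm f D l el inc hle hV iso.hom hiso q a b ha hb hA hB⟩

end Groth.Agent.RingDesc
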