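import Groth.Agent.RingDesc.Main
import Groth.Agent.RingDesc.Pure
import Groth.Prelude.Def_W4c3truncdispsmoothDesc
import Mathlib.RingTheory.Flat.FaithfullyFlat.Algebra
import Mathlib.Algebra.Module.Projective

/-!
# Witt vector modules: morphisms descend
-/

set_option autoImplicit false
set_option backward.isDefEq.respectTransparency false
set_option backward.isDefEq.respectTransparency.types false

universe u

open CategoryTheory Opposite TensorProduct

namespace Groth.Agent.RingDesc

open ModuleCat W4c3truncdispsmooth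

variable (W : CommRingCat.{u} ⥤ CommRingCat.{u})

/-- Modules over `W R`, as a pseudofunctor. -/
noncomputable def wpf : Pseudofunctor (LocallyDiscrete (CommRingCat.{u}ᵒᵖ)ᵒᵖ) Cat.{u, u + 1} :=
  (unopUnop CommRingCat.{u} ⋙ W).toPseudofunctor.comp CommRingCat.moduleCatExtendScalarsPseudofunctor.{u}

/-- The comparison, typed. -/
noncomputable def wcmp {A B C : CommRingCat.{u}} (f : A ⟶ B) (g : B ⟶ C) (fg : A ⟶ C)
    (hh : f.op.op.toLoc ≫ g.op.op.toLoc = fg.op.op.toLoc) (M : ModuleCat.{u} (W.obj A)) :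
    (extendScalars (W.map fg).hom).obj M ≅
      (extendScalars (W.map g).hom).obj ((extendScalars (W.map f).hom).obj M) :=
  (Cat.Hom.toNatIso ((wpf W).mapComp' f.op.op.toLoc g.op.op.toLoc fg.op.op.toLoc hh)).app M

theorem map2_one {A B : CommRingCat.{u}} {a b : (⟨A⟩ : LocallyDiscrete CommRingCat.{u}) ⟶ ⟨B⟩} (e : a ⟶ b)
    (M : ModuleCat.{u} A) (m : M) :
    (show (extendScalars a.as.hom).obj M ⟶ (extendScalars b.as.hom).obj M from
      (CommRingCat.moduleCatExtendScalarsPseudofunctor.map₂ e).toNatTrans.app M) (one a.as M m) = one b.as M m := by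
  obtain rfl := LocallyDiscrete.eq_of_hom e
  rw [Subsingleton.elim e (𝟙 a), PrelaxFunctor.map₂_id]
  rfl

theorem wcomp_hom_one {A B C : CommRingCat.{u}} (f : A ⟶ B) (g : B ⟶ C) (fg : A ⟶ C) (h : f ≫ g = fg)
    (hh : f.op.op.toLoc ≫ g.op.op.toLoc = fg.op.op.toLoc) (M : ModuleCat.{u} (W.obj A)) (m : M) :
    (wcmp W f g fg hh M).hom (one (W.map fg) M m) =
      one (W.map g) _ (one (W.map f) M m) := by
  subst h
  have e : (wpf W).mapComp' f.op.op.toLoc g.op.op.toLoc (f ≫ g).op.op.toLoc hh =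
      (wpf W).mapComp f.op.op.toLoc g.op.op.toLoc := Pseudofunctor.mapComp'_eq_mapComp _ _ _
  rw [wcmp, e]
  refine (congrArg (fun z => (extendScalarsComp (W.map f).hom (W.map g).hom).hom.app M z)
    (map2_one (a := (W.map (f ≫ g)).toLoc) (b := (W.map f ≫ W.map g).toLoc)
      (eqToHom (by rw [Functor.map_comp])) M m)).trans ?_
  exact extendScalarsComp_hom_app_one_tmul _ _ M m

variable {R₀ S₀ : CommRingCat.{u}} (f : R₀ ⟶ S₀)

/-- The functor to descent data. -/
noncomputable abbrev wToDD : ModuleCat.{u} (W.obj R₀) ⥤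
    (wpf W).DescentData (fun _ : PUnit.{u + 1} => f.op) :=
  (wpf W).toDescentData (fun _ : PUnit.{u + 1} => f.op)

variable {W}

/-- Morphisms of canonical descent data commute with the comparison maps. -/
theorem toDD_comm {C : Type*} [Category C] (F : Pseudofunctor (LocallyDiscrete Cᵒᵖ) Cat.{u, u + 1}) {X S Y : C}
    (f : X ⟶ S) (M N : F.obj (.mk (op S)))
    (g : (F.toDescentData (fun _ : PUnit.{u + 1} => f)).obj M ⟶ (F.toDescentData (fun _ : PUnit.{u + 1} => f)).obj N)
    (q : Y ⟶ S) (a b : Y ⟶ X) (ha : f.op.toLoc ≫ a.op.toLoc = q.op.toLoc) (hb : f.op.toLoc ≫ b.op.toLoc = q.op.toLoc) :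
    (F.map a.op.toLoc).toFunctor.map (g.hom PUnit.unit) ≫
        ((Cat.Hom.toNatIso (F.mapComp' f.op.toLoc a.op.toLoc q.op.toLoc ha)).app N).inv ≫
          ((Cat.Hom.toNatIso (F.mapComp' f.op.toLoc b.op.toLoc q.op.toLoc hb)).app N).hom =
      (((Cat.Hom.toNatIso (F.mapComp' f.op.toLoc a.op.toLoc q.op.toLoc ha)).app M).inv ≫
          ((Cat.Hom.toNatIso (F.mapComp' f.op.toLoc b.op.toLoc q.op.toLoc hb)).app M).hom) ≫
        (F.map b.op.toLoc).toFunctor.map (g.hom PUnit.unit) :=
  g.comm q (i₁ := PUnit.unit) (i₂ := PUnit.unit) a b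
    (congrArg Quiver.Hom.unop (congrArg (fun z => z.as) ha)) (congrArg Quiver.Hom.unop (congrArg (fun z => z.as) hb))

/-- The canonical gluing, typed. -/
noncomputable def wGlue {T : CommRingCat.{u}} (a b : S₀ ⟶ T) (h : f ≫ a = f ≫ b) (M : ModuleCat.{u} (W.obj R₀)) :
    (extendScalars (W.map a).hom).obj ((extendScalars (W.map f).hom).obj M) ⟶
      (extendScalars (W.map b).hom).obj ((extendScalars (W.map f).hom).obj M) :=
  (wcmp W f a (f ≫ a) rfl M).inv ≫ (wcmp W f b (f ≫ a) (by rw [h]; rfl) M).hom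

theorem wcomp_inv_one {T : CommRingCat.{u}} (a : S₀ ⟶ T) (q : R₀ ⟶ T) (h : f ≫ a = q)
    (ha : f.op.op.toLoc ≫ a.op.op.toLoc = q.op.op.toLoc) (M : ModuleCat.{u} (W.obj R₀)) (m : M) :
    (wcmp W f a q ha M).inv (one (W.map a) _ (one (W.map f) M m)) = one (W.map q) M m := by
  rw [← wcomp_hom_one W f a q h ha M m]
  exact congrArg (fun z : (extendScalars (W.map q).hom).obj M ⟶ (extendScalars (W.map q).hom).obj M =>
    z (one (W.map q) M m)) (wcmp W f a q ha M).hom_inv_id

theorem wcmp_one_aux {T : CommRingCat.{u}} (a b : S₀ ⟶ T) (q : R₀ ⟶ T) (h : f ≫ a = q) (h' : f ≫ b = q)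
    (ha : f.op.op.toLoc ≫ a.op.op.toLoc = q.op.op.toLoc) (hb : f.op.op.toLoc ≫ b.op.op.toLoc = q.op.op.toLoc)
    (M : ModuleCat.{u} (W.obj R₀)) (m : M) :
    ((wcmp W f a q ha M).inv ≫ (wcmp W f b q hb M).hom) (one (W.map a) _ (one (W.map f) M m)) =
      one (W.map b) _ (one (W.map f) M m) := by
  rw [ModuleCat.comp_apply, wcomp_inv_one f a q h ha, wcomp_hom_one W f b q h']

theorem wGlue_one {T : CommRingCat.{u}} (a b : S₀ ⟶ T) (h : f ≫ a = f ≫ b) (M : ModuleCat.{u} (W.obj R₀)) (m : M) :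
    wGlue f a b h M (one (W.map a) _ (one (W.map f) M m)) =
      one (W.map b) _ (one (W.map f) M m) := by
  delta wGlue
  exact wcmp_one_aux f a b (f ≫ a) rfl h.symm _ _ M m

theorem wToDD_map_unit {M N : ModuleCat.{u} (W.obj R₀)} (φ ψ : M ⟶ N) (h : (wToDD W f).map φ = (wToDD W f).map ψ) :
    (extendScalars (W.map f).hom).map φ = (extendScalars (W.map f).hom).map ψ :=
  congrArg (fun g : (wToDD W f).obj M ⟶ (wToDD W f).obj N => g.hom PUnit.unit) h

theorem wGlue_comm {M N : ModuleCat.{u} (W.obj R₀)} (g : (wToDD W f).obj M ⟶ (wToDD W f).obj N) {T : CommRingCat.{u}} (a b : S₀ ⟶ T) (h : f ≫ a = f ≫ b)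
    (g₀ : (extendScalars (W.map f).hom).obj M ⟶ (extendScalars (W.map f).hom).obj N) (hg : g₀ = g.hom PUnit.unit) :
    (extendScalars (W.map a).hom).map g₀ ≫ wGlue f a b h N =
          wGlue f a b h M ≫ (extendScalars (W.map b).hom).map g₀ := by
  subst hg
  exact toDD_comm (wpf W) f.op M N g (f ≫ a).op a.op b.op rfl (by rw [h]; rfl)

theorem wToDD_map_eq {M N : ModuleCat.{u} (W.obj R₀)} (g : (wToDD W f).obj M ⟶ (wToDD W f).obj N) (u : M ⟶ N)
    (g₀ : (extendScalars (W.map f).hom).obj M ⟶ (extendScalars (W.map f).hom).obj N) (hg : g₀ = g.hom PUnit.unit)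
    (hu : (extendScalars (W.map f).hom).map u = g₀) : (wToDD W f).map u = g :=
  Pseudofunctor.DescentData.hom_ext fun _ => hu.trans hg

/-- Coordinates through an embedding in a free module. -/
noncomputable def coord {A B : CommRingCat.{u}} (g : A ⟶ B) {N : ModuleCat.{u} A} (l : N →ₗ[A] A) :
    (extendScalars g.hom).obj N →+ B :=
  letI := g.hom.toAlgebra
  TensorProduct.liftAddHom
    (AddMonoidHom.mk' (fun b : B => AddMonoidHom.mk' (fun z : N => b * g.hom (l z))
      (fun z z' => by rw [map_add, map_add, mul_add])) fun (b b' : B) => AddMonoidHom.ext fun z : N => add_mul b b' _)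
    fun (c : A) (b : B) (z : N) => show (g.hom c * b : B) * g.hom (l z) = (b : B) * g.hom (l (c • z)) by
      rw [map_smul, smul_eq_mul, map_mul, mul_left_comm, mul_assoc]

theorem coord_gen {A B : CommRingCat.{u}} (g : A ⟶ B) {N : ModuleCat.{u} A} (l : N →ₗ[A] A) (b : B) (z : N) :
    coord g l (b • one g N z) = b * g.hom (l z) := by
  letI := g.hom.toAlgebra
  show coord g l ((b • ((1 : B) ⊗ₜ[A] z) : B ⊗[A] N)) = _
  rw [TensorProduct.smul_tmul', smul_eq_mul, mul_one]
  rfl

theorem coord_smul {A B : CommRingCat.{u}} (g : A ⟶ B) {N : ModuleCat.{u} A} (l : N →ₗ[A] A) (b : B)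
    (x : (extendScalars g.hom).obj N) : coord g l (b • x) = b * coord g l x := by
  induction x using induct' g N with
  | zero => rw [smul_zero, map_zero, mul_zero]
  | gen c z => rw [smul_smul, coord_gen, coord_gen, mul_assoc]
  | add x y hx hy => rw [smul_add, map_add, map_add, hx, hy, mul_add]

theorem exists_coords {A : CommRingCat.{u}} (N : ModuleCat.{u} A) [Module.Finite A N] [Module.Projective A N] :
    ∃ (k : ℕ) (l : Fin k → (N →ₗ[A] A)) (e : Fin k → N), ∀ z, ∑ j, l j z • e j = z := by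
  classical
  obtain ⟨k, π, hπ⟩ := Module.Finite.exists_fin' A N
  obtain ⟨s, hs⟩ := Module.projective_lifting_property π LinearMap.id hπ
  refine ⟨k, fun j => (LinearMap.proj j).comp s, fun j => π (Pi.single j 1), fun z => ?_⟩
  have := congrArg π (pi_eq_sum_univ' (s z))
  rw [show π (s z) = z from LinearMap.congr_fun hs z, map_sum] at this
  simpa [map_smul] using this.symm

theorem sq_apply {A : CommRingCat.{u}} {X Y Y' Z : ModuleCat.{u} A} {F : X ⟶ Y} {G : Y ⟶ Z} {F' : X ⟶ Y'} {G' : Y' ⟶ Z}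
    (h : F ≫ G = F' ≫ G') (x : X) (y : Y) (y' : Y') (z : Z) (h1 : F x = y) (h2 : F' x = y') (h3 : G' y' = z) :
    G y = z := by
  subst h1 h2 h3
  exact congrArg (fun K : X ⟶ Z => K x) h

section Coords

variable {M N : ModuleCat.{u} (W.obj R₀)} {k : ℕ} (l : Fin k → (N →ₗ[W.obj R₀] W.obj R₀)) (e : Fin k → N)

theorem one_injective_of_coords (hWinj : Function.Injective (W.map f).hom) (hle : ∀ z, ∑ j, l j z • e j = z) :
    ∀ z z' : N, one (W.map f) N z = one (W.map f) N z' → z = z' := by
  have hinj : ∀ z : N, one (W.map f) N z = 0 → z = 0 := by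
    intro z hz
    rw [← hle z]
    refine Finset.sum_eq_zero fun j _ => ?_
    have := congrArg (coord (W.map f) (l j)) hz
    rw [← one_smul (W.obj S₀) (one (W.map f) N z), coord_gen, map_zero, one_mul, ← map_zero (W.map f).hom] at this
    rw [hWinj this, zero_smul]
  have hinj' : ∀ z z' : N, one (W.map f) N z = one (W.map f) N z' → z = z' := fun z z' h => by
    refine sub_eq_zero.1 (hinj _ ?_)
    have := one_add (W.map f) N (z - z') z'
    rw [sub_add_cancel, h] at this
    simpa using this.symm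
  exact hinj'

theorem coords_sum (hle : ∀ z, ∑ j, l j z • e j = z) : ∀ y : (extendScalars (W.map f).hom).obj N,
    ∑ j, coord (W.map f) (l j) y • one (W.map f) N (e j) = y := by
  intro y
  induction y using induct' (W.map f) N with
  | zero => simp [map_zero]
  | gen b z =>
    simp only [coord_gen, mul_smul, ← one_smul', ← Finset.smul_sum]
    congr 1
    conv_rhs => rw [← hle z]
    exact (map_sum (AddMonoidHom.mk' (one (W.map f) N) (one_add _ _)) _ _).symm
  | add x y hx hy => simp only [map_add, add_smul, Finset.sum_add_distrib, hx, hy]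

theorem coord_glue {T : CommRingCat.{u}} (a b : S₀ ⟶ T) (h : f ≫ a = f ≫ b) (j : Fin k)
    (y : (extendScalars (W.map f).hom).obj N) :
    coord (W.map b) (A := W.obj S₀) (B := W.obj T) (N := (extendScalars (W.map f).hom).obj N)
      { toFun := coord (W.map f) (l j)
        map_add' := map_add _
        map_smul' := coord_smul _ _ } (wGlue f a b h N (one (W.map a) _ y)) =
      (W.map a).hom (coord (W.map f) (l j) y) := by
  induction y using induct' (W.map f) N with
  | zero => rw [one_zero]; simp only [map_zero]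
  | gen c z =>
    have h1 : coord (W.map f) (l j) (one (W.map f) N z) = (W.map f).hom (l j z) := by
      rw [← one_smul (W.obj S₀) (one (W.map f) N z), coord_gen, one_mul]
    rw [one_smul', map_smul, wGlue_one, coord_gen]
    show (W.map a).hom c * (W.map b).hom (coord (W.map f) (l j) (one (W.map f) N z)) = _
    rw [h1, coord_smul, h1, map_mul]
    congr 1
    have := congrArg (fun F : R₀ ⟶ T => (W.map F).hom (l j z)) h
    simp only [Functor.map_comp, CommRingCat.hom_comp, RingHom.comp_apply] at this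
    exact this.symm
  | add x y hx hy => rw [one_add]; simp only [map_add, hx, hy]

theorem glue_fix (hWinj : Function.Injective (W.map f).hom)
    (hWeq : ∀ x : W.obj S₀, (∀ {T : CommRingCat.{u}} (a b : S₀ ⟶ T), f ≫ a = f ≫ b → (W.map a).hom x = (W.map b).hom x) →
      ∃ r : W.obj R₀, (W.map f).hom r = x) (hle : ∀ z, ∑ j, l j z • e j = z)
    (g₀ : (extendScalars (W.map f).hom).obj M ⟶ (extendScalars (W.map f).hom).obj N)
    (hg₀ : ∀ {T : CommRingCat.{u}} (a b : S₀ ⟶ T) (h : f ≫ a = f ≫ b),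
      (extendScalars (W.map a).hom).map g₀ ≫ wGlue f a b h N =
        wGlue f a b h M ≫ (extendScalars (W.map b).hom).map g₀) :
    ∀ (m : M) {T : CommRingCat.{u}} (a b : S₀ ⟶ T) (h : f ≫ a = f ≫ b),
      (wGlue f a b h N (one (W.map a) _ (g₀ (one (W.map f) M m)))) = one (W.map b) _ (g₀ (one (W.map f) M m)) := by
  intro m T a b h
  have e1 := map_one' (W.map a) g₀ (one (W.map f) M m)
  have e2 := wGlue_one f a b h M m
  have e3 := map_one' (W.map b) g₀ (one (W.map f) M m)
  exact sq_apply (hg₀ a b h) _ _ _ _ e1 e2 e3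

theorem coord_one {T : CommRingCat.{u}} (b : S₀ ⟶ T) (j : Fin k) (y : (extendScalars (W.map f).hom).obj N) :
    coord (W.map b) (A := W.obj S₀) (B := W.obj T) (N := (extendScalars (W.map f).hom).obj N)
      { toFun := coord (W.map f) (l j)
        map_add' := map_add _
        map_smul' := coord_smul _ _ } (one (W.map b) _ y) = (W.map b).hom (coord (W.map f) (l j) y) := by
  rw [← one_smul (W.obj T) (one (W.map b) _ y), coord_gen, one_mul]
  rfl

theorem exists_map_eq (hWinj : Function.Injective (W.map f).hom)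
    (hWeq : ∀ x : W.obj S₀, (∀ {T : CommRingCat.{u}} (a b : S₀ ⟶ T), f ≫ a = f ≫ b → (W.map a).hom x = (W.map b).hom x) →
      ∃ r : W.obj R₀, (W.map f).hom r = x) (hle : ∀ z, ∑ j, l j z • e j = z)
    (g₀ : (extendScalars (W.map f).hom).obj M ⟶ (extendScalars (W.map f).hom).obj N)
    (hg₀ : ∀ {T : CommRingCat.{u}} (a b : S₀ ⟶ T) (h : f ≫ a = f ≫ b),
      (extendScalars (W.map a).hom).map g₀ ≫ wGlue f a b h N =
        wGlue f a b h M ≫ (extendScalars (W.map b).hom).map g₀) :
    ∃ u : M ⟶ N, (extendScalars (W.map f).hom).map u = g₀ := by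
  have hr : ∀ m j, ∃ r : W.obj R₀, (W.map f).hom r = coord (W.map f) (l j) (g₀ (one (W.map f) M m)) := by
    intro m j
    refine hWeq _ fun {T} a b h => ?_
    exact (coord_glue f l a b h j _).symm.trans ((congrArg _ (glue_fix f l e hWinj hWeq hle g₀ hg₀ m a b h)).trans
      (coord_one f l b j _))
  choose r hr using hr
  have hz : ∀ m, ∃ z : N, one (W.map f) N z = g₀ (one (W.map f) M m) := fun m => by
    refine ⟨∑ j, r m j • e j, ?_⟩
    conv_rhs => rw [← coords_sum f l e hle (g₀ (one (W.map f) M m))]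
    refine (map_sum (AddMonoidHom.mk' (one (W.map f) N) (one_add _ _)) _ _).trans (Finset.sum_congr rfl fun j _ => ?_)
    show one (W.map f) N (r m j • e j) = _
    rw [one_smul', hr]
  choose v hv using hz
  let u : M →ₗ[W.obj R₀] N :=
    { toFun := v
      map_add' := fun a b => one_injective_of_coords f l e hWinj hle _ _ (by
        rw [one_add, hv, hv, hv, one_add]
        exact map_add g₀.hom _ _)
      map_smul' := fun c a => one_injective_of_coords f l e hWinj hle _ _ (by
        rw [RingHom.id_apply, one_smul', hv, hv, one_smul']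
        exact map_smul g₀.hom ((W.map f).hom c) (one (W.map f) M a)) }
  refine ⟨ModuleCat.ofHom u, ?_⟩
  refine ext_one (W.map f) fun m => ?_
  rw [map_one']
  exact hv m


theorem bijective_of_equalizer (hWinj : Function.Injective (W.map f).hom)
    (hWeq : ∀ x : W.obj S₀, (∀ {T : CommRingCat.{u}} (a b : S₀ ⟶ T), f ≫ a = f ≫ b → (W.map a).hom x = (W.map b).hom x) →
      ∃ r : W.obj R₀, (W.map f).hom r = x) (M N : ModuleCat.{u} (W.obj R₀))
    [Module.Finite (W.obj R₀) N] [Module.Projective (W.obj R₀) N] :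
    Function.Bijective (fun φ : M ⟶ N => (wToDD W f).map φ) := by
  obtain ⟨k, l, e, hle⟩ := exists_coords N
  constructor
  · intro φ ψ h
    refine ModuleCat.hom_ext (LinearMap.ext fun m => one_injective_of_coords f l e hWinj hle _ _ ?_)
    exact congrArg (fun g : (extendScalars (W.map f).hom).obj M ⟶ (extendScalars (W.map f).hom).obj N =>
      g (one (W.map f) M m)) (wToDD_map_unit f φ ψ h)
  · intro g
    obtain ⟨u, hu⟩ := exists_map_eq f l e hWinj hWeq hle (g.hom PUnit.unit) fun a b h => wGlue_comm f g a b h _ rfl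
    exact ⟨u, wToDD_map_eq f g u _ rfl hu⟩

end Coords

variable {p : ℕ} [Fact p.Prime] {n : ℕ}

theorem witt_equalizer (hf : f.hom.FaithfullyFlat) (x : (wittTrunc p n).obj S₀)
    (h : ∀ {T : CommRingCat.{u}} (a b : S₀ ⟶ T), f ≫ a = f ≫ b → ((wittTrunc p n).map a).hom x = ((wittTrunc p n).map b).hom x) :
    ∃ r : (wittTrunc p n).obj R₀, ((wittTrunc p n).map f).hom r = x := by
  letI : Algebra R₀ S₀ := f.hom.toAlgebra
  haveI : Module.FaithfullyFlat R₀ S₀ := hf
  have hpure : ∀ (P : Type u) [AddCommGroup P] [Module R₀ P],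
      Function.Injective (LinearMap.lTensor P (Algebra.linearMap R₀ S₀)) := by
    intro P _ _
    refine (injective_iff_map_eq_zero _).2 fun z hz => ?_
    obtain ⟨y, rfl⟩ : ∃ y : P, y ⊗ₜ[R₀] (1 : R₀) = z :=
      ⟨TensorProduct.rid R₀ P z, (TensorProduct.rid R₀ P).symm_apply_apply z⟩
    have h1 : (1 : S₀) ⊗ₜ[R₀] y = (1 : S₀) ⊗ₜ[R₀] (0 : P) := by
      have := congrArg (TensorProduct.comm R₀ P S₀) hz
      simpa using this
    rw [Module.FaithfullyFlat.tensorProduct_mk_injective (A := R₀) (B := S₀) P h1, TensorProduct.zero_tmul]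
  have hco : ∀ i : Fin n, ∃ r : R₀, f.hom r = (show TruncatedWittVector p n S₀ from x).coeff i := by
    intro i
    set c := (show TruncatedWittVector p n S₀ from x).coeff i
    let T : CommRingCat.{u} := CommRingCat.of (S₀ ⊗[R₀] S₀)
    let a : S₀ ⟶ T := CommRingCat.ofHom Algebra.TensorProduct.includeLeftRingHom
    let b : S₀ ⟶ T := CommRingCat.ofHom (Algebra.TensorProduct.includeRight (R := R₀) (A := S₀) (B := S₀)).toRingHom
    have hab : f ≫ a = f ≫ b := by
      ext r
      show (algebraMap R₀ S₀ r) ⊗ₜ[R₀] (1 : S₀) = (1 : S₀) ⊗ₜ[R₀] algebraMap R₀ S₀ r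
      rw [Algebra.algebraMap_eq_smul_one, TensorProduct.smul_tmul]
    have h1 : c ⊗ₜ[R₀] (1 : S₀) = (1 : S₀) ⊗ₜ[R₀] c := by
      have h0 := congrArg (fun z : TruncatedWittVector p n (S₀ ⊗[R₀] S₀) => z.coeff i) (h a b hab)
      exact h0
    obtain ⟨r, hr⟩ := exists_of_unit_eq (R := R₀) (S := S₀) hpure R₀ (c ⊗ₜ[R₀] (1 : R₀)) (by
      let θ : S₀ ⊗[R₀] S₀ ≃ₗ[R₀] S₀ ⊗[R₀] (S₀ ⊗[R₀] R₀) :=
        TensorProduct.congr (LinearEquiv.refl R₀ S₀) (TensorProduct.rid R₀ S₀).symm
      exact congrArg θ h1)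
    refine ⟨r, ?_⟩
    have := congrArg (TensorProduct.rid R₀ S₀) hr
    simp only [TensorProduct.rid_tmul, Algebra.smul_def, mul_one, map_one, one_mul] at this
    exact this
  choose r hr using hco
  refine ⟨TruncatedWittVector.mk p r, TruncatedWittVector.ext (p := p) (n := n) fun i => ?_⟩
  show (WittGrp.truncMapFun p n f.hom (TruncatedWittVector.mk p r)).coeff i = _
  rw [WittGrp.truncMapFun, TruncatedWittVector.coeff_mk, TruncatedWittVector.coeff_mk, hr]

theorem witt_map_injective (hf : f.hom.FaithfullyFlat) : Function.Injective ((wittTrunc p n).map f).hom := by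
  letI : Algebra R₀ S₀ := f.hom.toAlgebra
  haveI : Module.FaithfullyFlat R₀ S₀ := hf
  intro (x : TruncatedWittVector p n R₀) (y : TruncatedWittVector p n R₀) h
  refine TruncatedWittVector.ext fun i => FaithfulSMul.algebraMap_injective R₀ S₀ ?_
  have := congrArg (fun z : TruncatedWittVector p n S₀ => z.coeff i) h
  simp only [W4c3truncdispsmooth.wittTrunc] at this
  exact (TruncatedWittVector.coeff_mk (p := p) _ i).symm.trans (this.trans (TruncatedWittVector.coeff_mk (p := p) _ i))

theorem witt_bijective_wpf (hf : f.hom.FaithfullyFlat) (M N : ModuleCat.{u} ((wittTrunc p n).obj R₀))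
    [Module.Finite ((wittTrunc p n).obj R₀) N] [Module.Projective ((wittTrunc p n).obj R₀) N] :
    Function.Bijective (fun φ : M ⟶ N => (wToDD (wittTrunc p n) f).map φ) :=
  bijective_of_equalizer (W := wittTrunc p n) f (witt_map_injective f hf) (fun x hx => witt_equalizer f hf x hx) M N

theorem transfer {P Q : Pseudofunctor (LocallyDiscrete (CommRingCat.{u}ᵒᵖ)ᵒᵖ) Cat.{u, u + 1}} (e : P = Q)
    (M N : P.obj (.mk (op (op R₀)))) (M' N' : Q.obj (.mk (op (op R₀)))) (hM : HEq M M') (hN : HEq N N')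
    (h : Function.Bijective (fun φ : M ⟶ N => (P.toDescentData (fun _ : PUnit.{u + 1} => f.op)).map φ)) :
    Function.Bijective (fun φ : M' ⟶ N' => (Q.toDescentData (fun _ : PUnit.{u + 1} => f.op)).map φ) := by
  subst e; cases eq_of_heq hM; cases eq_of_heq hN; exact h

theorem witt_bijective (hf : f.hom.FaithfullyFlat) (M N : ModuleCat.{u} ((wittTrunc p n).obj R₀))
    [Module.Finite ((wittTrunc p n).obj R₀) N] [Module.Projective ((wittTrunc p n).obj R₀) N] :
    Function.Bijective (fun φ : M ⟶ N =>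
      ((wittModPF.{u} p n).toDescentData (fun _ : PUnit.{u + 1} => f.op)).map φ) :=
  transfer f (P := wpf (wittTrunc.{u} p n)) (Q := wittModPF.{u} p n) rfl M N M N HEq.rfl HEq.rfl (witt_bijective_wpf f hf M N)

end Groth.Agent.RingDesc
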