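import Groth.Agent.RingDesc.WittLayer
import Groth.Agent.RingDesc.MatDesc
import Mathlib.LinearAlgebra.Matrix.NonsingularInverse
import Mathlib.RingTheory.Nilpotent.Basic

/-!
# Descent of matrices over truncated Witt vectors
-/

set_option autoImplicit false

universe u

open TensorProduct Matrix Groth.Agent.WittLayer

namespace Groth.Agent.MatDesc

variable {p : ℕ} [Fact p.Prime] {n : ℕ} {R S : Type u} [CommRing R] [CommRing S] [Algebra R S]

/-- The map of truncated Witt vectors. -/
noncomputable abbrev mp (p : ℕ) [Fact p.Prime] (n : ℕ) {T T' : Type u} [CommRing T] [CommRing T'] [Algebra R T]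
    [Algebra R T'] (a : T →ₐ[R] T') : TruncatedWittVector p n T →+* TruncatedWittVector p n T' :=
  WittGrp.truncMap p n a.toRingHom

theorem mp_comp {A B C : Type u} [CommRing A] [CommRing B] [CommRing C] [Algebra R A] [Algebra R B] [Algebra R C]
    (h : B →ₐ[R] C) (a : A →ₐ[R] B) (x : TruncatedWittVector p n A) : mp p n (h.comp a) x = mp p n h (mp p n a x) :=
  RingHom.congr_fun (WittGrp.truncMap_comp p n a.toRingHom h.toRingHom) x

theorem mp_id (x : TruncatedWittVector p n S) : mp p n (AlgHom.id R S) x = x :=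
  RingHom.congr_fun (WittGrp.truncMap_id p n) x

/-- A natural family of Witt matrices indexed by pairs of maps out of `S` over `R`. -/
structure WGlue (p : ℕ) [Fact p.Prime] (n : ℕ) (R S : Type u) [CommRing R] [CommRing S] [Algebra R S] (ι : Type)
    [Fintype ι] where
  g : ∀ {T : Type u} [CommRing T] [Algebra R T], (S →ₐ[R] T) → (S →ₐ[R] T) → Matrix ι ι (TruncatedWittVector p n T)
  natural : ∀ {T T' : Type u} [CommRing T] [Algebra R T] [CommRing T'] [Algebra R T'] (h : T →ₐ[R] T')
    (a b : S →ₐ[R] T), g (h.comp a) (h.comp b) = (g a b).map (mp p n h)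
  cocycle : ∀ {T : Type u} [CommRing T] [Algebra R T] (a b c : S →ₐ[R] T), g b c * g a b = g a c

variable {ι : Type} [Fintype ι]

/-- The transposed family. -/
def WGlue.dual (G : WGlue p n R S ι) : WGlue p n R S ι where
  g a b := (G.g b a)ᵀ
  natural h a b := by rw [G.natural h b a, Matrix.transpose_map]
  cocycle a b c := by rw [← Matrix.transpose_mul, G.cocycle c b a]

/-- The projector of the family. -/
def WGlue.proj (G : WGlue p n R S ι) : Matrix ι ι (TruncatedWittVector p n S) := G.g (AlgHom.id R S) (AlgHom.id R S)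

theorem WGlue.map_proj (G : WGlue p n R S ι) {T : Type u} [CommRing T] [Algebra R T] (a : S →ₐ[R] T) :
    G.proj.map (mp p n a) = G.g a a := (G.natural a _ _).symm.trans (by rw [AlgHom.comp_id])

/-- The family at level `k`. -/
noncomputable def WGlue.level (G : WGlue p n R S ι) {k : ℕ} (hk : k < n) : Glue R S ι where
  g a b := (G.g a b).map (ghost hk)
  natural h a b := by
    rw [G.natural, Matrix.map_map, Matrix.map_map]
    exact Matrix.ext fun i j => ghost_map h.toRingHom hk _
  cocycle a b c := by rw [← Matrix.map_mul, G.cocycle]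

theorem lay_mulVec {T : Type u} [CommRing T] {k : ℕ} (hk : k < n) (M : Matrix ι ι (TruncatedWittVector p n T))
    (v : ι → TruncatedWittVector p n T) (hv : ∀ i, Low k (v i)) (i : ι) :
    lay hk ((M *ᵥ v) i) = (M.map (ghost hk) *ᵥ fun j => lay hk (v j)) i := by
  simp only [Matrix.mulVec, dotProduct, Matrix.map_apply]
  rw [lay_sum hk _ _ fun j _ => low_mul _ (hv j)]
  exact Finset.sum_congr rfl fun j _ => lay_mul hk _ (hv j)

theorem low_mulVec {T : Type u} [CommRing T] {k : ℕ} (M : Matrix ι ι (TruncatedWittVector p n T))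
    (v : ι → TruncatedWittVector p n T) (hv : ∀ i, Low k (v i)) (i : ι) : Low k ((M *ᵥ v) i) :=
  low_sum _ _ fun j _ => low_mul _ (hv j)

/-- A natural family of Witt vectors. -/
structure WVec (p : ℕ) [Fact p.Prime] (n : ℕ) (R S : Type u) [CommRing R] [CommRing S] [Algebra R S] (ι : Type) where
  c : ∀ {T : Type u} [CommRing T] [Algebra R T], (S →ₐ[R] T) → (S →ₐ[R] T) → ι → TruncatedWittVector p n T
  natural : ∀ {T T' : Type u} [CommRing T] [Algebra R T] [CommRing T'] [Algebra R T'] (h : T →ₐ[R] T')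
    (a b : S →ₐ[R] T), c (h.comp a) (h.comp b) = ⇑(mp p n h) ∘ c a b

/-- The cocycle condition. -/
def WVec.IsCocycle (c : WVec p n R S ι) (G : WGlue p n R S ι) : Prop :=
  ∀ {T : Type u} [CommRing T] [Algebra R T] (a b d : S →ₐ[R] T), c.c a d = G.g b d *ᵥ c.c a b + c.c b d

/-- The coboundary of a vector. -/
noncomputable def cobdry (G : WGlue p n R S ι) (x : ι → TruncatedWittVector p n S) : WVec p n R S ι where
  c a b := ⇑(mp p n b) ∘ x - G.g a b *ᵥ (⇑(mp p n a) ∘ x)
  natural h a b := by
    funext i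
    simp only [Function.comp_apply, Pi.sub_apply, map_sub, G.natural, RingHom.map_mulVec, mp_comp]
    congr 2
    all_goals (funext j; simp only [Function.comp_apply, mp_comp])

theorem cobdry_isCocycle (G : WGlue p n R S ι) (x : ι → TruncatedWittVector p n S) :
    (cobdry G x).IsCocycle G := by
  intro T _ _ a b d
  simp only [cobdry, Matrix.mulVec_sub, Matrix.mulVec_mulVec, G.cocycle]
  abel

variable [DecidableEq ι]

theorem exists_sub_eq_witt [Module.FaithfullyFlat R S] (G : WGlue p n R S ι) :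
    ∀ (d k : ℕ), k + d = n → ∀ c : WVec p n R S ι, c.IsCocycle G →
      (∀ {T : Type u} [CommRing T] [Algebra R T] (a b : S →ₐ[R] T) (i : ι), Low k (c.c a b i)) →
      ∃ x : ι → TruncatedWittVector p n S, (∀ i, Low k (x i)) ∧
        ∀ {T : Type u} [CommRing T] [Algebra R T] (a b : S →ₐ[R] T), c.c a b = (cobdry G x).c a b := by
  intro d
  induction d with
  | zero =>
    intro k hk c _ hlow
    obtain rfl : k = n := hk
    refine ⟨0, fun i => low_zero _, fun {T} _ _ a b => funext fun i => ?_⟩
    rw [eq_zero_of_low (hlow a b i)]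
    simp [cobdry]
  | succ d ih =>
    intro k hk c hc hlow
    have hkn : k < n := by omega
    let c₀ : Vec R S ι :=
      { c := fun a b i => lay hkn (c.c a b i)
        natural := fun h a b => funext fun i =>
          (congrArg (lay hkn) (congrFun (c.natural h a b) i)).trans (lay_map h.toRingHom hkn _) }
    obtain ⟨x₀, hx₀⟩ := exists_sub_eq (G.level hkn) c₀ (fun {T} _ _ a b e => funext fun i => by
      show lay hkn (c.c a e i) = _
      rw [hc a b e, Pi.add_apply, lay_add hkn (low_mulVec _ _ (hlow a b) i) (hlow b e i),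
        lay_mulVec hkn _ _ (hlow a b) i]
      rfl)
    let xs : ι → TruncatedWittVector p n S := fun i => single k (x₀ i)
    have hxs : ∀ {T : Type u} [CommRing T] [Algebra R T] (a : S →ₐ[R] T) (i : ι),
        mp p n a (xs i) = single k (a (x₀ i)) := fun a i => map_single a.toRingHom k (x₀ i)
    have hlow1 : ∀ {T : Type u} [CommRing T] [Algebra R T] (a b : S →ₐ[R] T) (i : ι),
        Low k ((cobdry G xs).c a b i) := fun a b i => by
      refine low_sub ?_ (low_mulVec _ _ (fun j => ?_) i)
      · show Low k (mp p n b (xs i)); rw [hxs]; exact low_single _ _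
      · show Low k (mp p n a (xs j)); rw [hxs]; exact low_single _ _
    let c' : WVec p n R S ι :=
      { c := fun a b => c.c a b - (cobdry G xs).c a b
        natural := fun h a b => by
          rw [c.natural, (cobdry G xs).natural]
          funext i
          exact (map_sub (mp p n h) _ _).symm }
    obtain ⟨y, hy, hy'⟩ := ih (k + 1) (by omega) c' (fun {T} _ _ a b e => by
      show c.c a e - (cobdry G xs).c a e = G.g b e *ᵥ (c.c a b - (cobdry G xs).c a b) +
        (c.c b e - (cobdry G xs).c b e)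
      rw [hc a b e, cobdry_isCocycle G xs a b e, Matrix.mulVec_sub]
      abel) (fun {T} _ _ a b i => by
      refine low_succ hkn (low_sub (hlow a b i) (hlow1 a b i)) ?_
      show lay hkn (c.c a b i - (cobdry G xs).c a b i) = 0
      rw [lay_sub hkn (hlow a b i) (hlow1 a b i), sub_eq_zero]
      refine (congrFun (hx₀ a b) i).trans ?_
      have hl : ∀ j, Low k ((⇑(mp p n a) ∘ xs) j) := fun j => by
        show Low k (mp p n a (xs j)); rw [hxs]; exact low_single _ _
      show _ = lay hkn ((⇑(mp p n b) ∘ xs) i - (G.g a b *ᵥ (⇑(mp p n a) ∘ xs)) i)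
      rw [lay_sub hkn (by show Low k (mp p n b (xs i)); rw [hxs]; exact low_single _ _) (low_mulVec _ _ hl i),
        lay_mulVec hkn _ _ hl i]
      simp only [Function.comp_apply, hxs, lay_single]
      rfl)
    refine ⟨xs + y, fun i => low_add (low_single _ _) fun j hj => hy i j (Nat.lt_succ_of_lt hj),
      fun {T} _ _ a b => ?_⟩
    have h0 := hy' a b
    change c.c a b - (cobdry G xs).c a b = _ at h0
    rw [sub_eq_iff_eq_add] at h0
    rw [h0]
    have : ∀ f : S →ₐ[R] T, ⇑(mp p n f) ∘ (xs + y) = ⇑(mp p n f) ∘ xs + ⇑(mp p n f) ∘ y := fun f =>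
      funext fun i => map_add (mp p n f) _ _
    simp only [cobdry, this, Matrix.mulVec_add]
    abel

/-- Invariant vectors lift. -/
theorem exists_invariant_lift [Module.FaithfullyFlat R S] (G : WGlue p n R S ι) (hn : 0 < n) (v₀ : ι → S)
    (hv₀ : ∀ {T : Type u} [CommRing T] [Algebra R T] (a b : S →ₐ[R] T),
      (G.level hn).g a b *ᵥ (⇑a ∘ v₀) = ⇑b ∘ v₀) :
    ∃ v : ι → TruncatedWittVector p n S, (∀ i, ghost hn (v i) = v₀ i) ∧
      ∀ {T : Type u} [CommRing T] [Algebra R T] (a b : S →ₐ[R] T),
        G.g a b *ᵥ (⇑(mp p n a) ∘ v) = ⇑(mp p n b) ∘ v := by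
  let v : ι → TruncatedWittVector p n S := fun i => single 0 (v₀ i)
  have hv : ∀ i, ghost hn (v i) = v₀ i := fun i => by
    rw [ghost_zero_eq]; exact lay_single hn (v₀ i)
  let c : WVec p n R S ι :=
    { c := fun a b => -(cobdry G v).c a b
      natural := fun h a b => by
        rw [(cobdry G v).natural]
        funext i
        exact (map_neg (mp p n h) _).symm }
  obtain ⟨x, hx, hx'⟩ := exists_sub_eq_witt G (n - 1) 1 (by omega) c
    (fun {T} _ _ a b e => by
      show -(cobdry G v).c a e = G.g b e *ᵥ (-(cobdry G v).c a b) + -(cobdry G v).c b e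
      rw [cobdry_isCocycle G v a b e, Matrix.mulVec_neg]; abel)
    (fun {T} _ _ a b i => by
      rw [low_one_iff hn]
      show ghost hn (-(⇑(mp p n b) ∘ v - G.g a b *ᵥ (⇑(mp p n a) ∘ v)) i) = 0
      have hm : ∀ f : S →ₐ[R] T, ∀ j, ghost hn (mp p n f (v j)) = f (v₀ j) := fun f j =>
        (ghost_map f.toRingHom hn _).trans (congrArg f (hv j))
      simp only [Pi.neg_apply, Pi.sub_apply, Function.comp_apply, map_neg, map_sub, RingHom.map_mulVec, hm]
      have h1 := congrFun (hv₀ a b) i
      simp only [Function.comp_apply] at h1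
      rw [← h1, neg_eq_zero, sub_eq_zero]
      congr 1
      funext j
      exact (hm a j).symm)
  refine ⟨v + x, fun i => ?_, fun {T} _ _ a b => ?_⟩
  · rw [Pi.add_apply, map_add, hv, (low_one_iff hn (x i)).1 (hx i), add_zero]
  · have h0 : -(⇑(mp p n b) ∘ v - G.g a b *ᵥ (⇑(mp p n a) ∘ v)) =
        ⇑(mp p n b) ∘ x - G.g a b *ᵥ (⇑(mp p n a) ∘ x) := hx' a b
    have : ∀ f : S →ₐ[R] T, ⇑(mp p n f) ∘ (v + x) = ⇑(mp p n f) ∘ v + ⇑(mp p n f) ∘ x := fun f =>
      funext fun i => map_add (mp p n f) _ _
    rw [this, this, Matrix.mulVec_add]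
    linear_combination (norm := abel) h0

/-- Invariant matrices of columns lift a spanning family. -/
theorem exists_invariant_matrix [Module.FaithfullyFlat R S] (G : WGlue p n R S ι) (hn : 0 < n) :
    ∃ (k : ℕ) (V : Matrix ι (Fin k) (TruncatedWittVector p n S)) (Y : Matrix (Fin k) ι S),
      V.map (ghost hn) * Y = G.proj.map (ghost hn) ∧
      ∀ {T : Type u} [CommRing T] [Algebra R T] (a b : S →ₐ[R] T), G.g a b * V.map (mp p n a) = V.map (mp p n b) := by
  obtain ⟨k, V₀, Y, hVY, hV₀⟩ := exists_invariant_span (G.level hn)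
  have hcol : ∀ l : Fin k, ∃ v : ι → TruncatedWittVector p n S, (∀ i, ghost hn (v i) = V₀ i l) ∧
      ∀ {T : Type u} [CommRing T] [Algebra R T] (a b : S →ₐ[R] T),
        G.g a b *ᵥ (⇑(mp p n a) ∘ v) = ⇑(mp p n b) ∘ v := fun l =>
    exists_invariant_lift G hn (fun i => V₀ i l) fun a b => funext fun i => congrFun (congrFun (hV₀ a b) i) l
  choose v hv hv' using hcol
  refine ⟨k, Matrix.of fun i l => v l i, Y, ?_, fun {T} _ _ a b => Matrix.ext fun i l => congrFun (hv' l a b) i⟩
  rw [show (Matrix.of fun i l => v l i).map (ghost hn) = V₀ from Matrix.ext fun i l => hv l i]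
  exact hVY

theorem isUnit_one_sub [DecidableEq ι] (hp : IsNilpotent (p : S)) (hn : 0 < n)
    (N : Matrix ι ι (TruncatedWittVector p n S)) (hN : N.map (ghost hn) = 0) : IsUnit (1 - N) := by
  rw [Matrix.isUnit_iff_isUnit_det]
  have h1 : ghost hn ((1 - N).det) = 1 := by
    have : ((ghost hn).mapMatrix (1 - N) : Matrix ι ι S) = 1 := by
      rw [map_sub, map_one, RingHom.mapMatrix_apply, hN, sub_zero]
    rw [RingHom.map_det, this, Matrix.det_one]
  have h2 : IsNilpotent ((1 - N).det - 1) :=
    isNilpotent_of_low_one hp ((low_one_iff hn _).2 (by rw [map_sub, h1, map_one, sub_self]))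
  simpa using h2.isUnit_add_one

/-- Entries with equal images come from the base. -/
theorem exists_descend [Module.FaithfullyFlat R S] {κ κ' : Type} (M : Matrix κ κ' (TruncatedWittVector p n S))
    (h : ∀ {T : Type u} [CommRing T] [Algebra R T] (a b : S →ₐ[R] T), M.map (mp p n a) = M.map (mp p n b)) :
    ∃ M₀ : Matrix κ κ' (TruncatedWittVector p n R), M₀.map (WittGrp.truncMap p n (algebraMap R S)) = M := by
  have h' : ∀ i j (l : Fin n), ∃ r : R, algebraMap R S r = (M i j).coeff l := fun i j l => by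
    refine exists_of_equalized _ ?_
    have := congrArg (TruncatedWittVector.coeff l) (congrFun (congrFun (h (i2 R S) (i1 R S)) i) j)
    simp only [Matrix.map_apply, WittGrp.coeff_truncMap] at this
    simpa using this
  choose r hr using h'
  exact ⟨Matrix.of fun i j => TruncatedWittVector.mk p (r i j), Matrix.ext fun i j =>
    TruncatedWittVector.ext fun l => by
      simp only [Matrix.map_apply, Matrix.of_apply, WittGrp.coeff_truncMap, TruncatedWittVector.coeff_mk, hr]⟩

/-- The main statement on matrices. -/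
theorem exists_idempotent [Module.FaithfullyFlat R S] (hp : IsNilpotent (p : R)) (G : WGlue p n R S ι) :
    ∃ (k : ℕ) (E : Matrix (Fin k) (Fin k) (TruncatedWittVector p n R))
      (V : Matrix ι (Fin k) (TruncatedWittVector p n S)) (U : Matrix (Fin k) ι (TruncatedWittVector p n S)),
      E * E = E ∧ U * V = E.map (WittGrp.truncMap p n (algebraMap R S)) ∧ V * U = G.proj ∧
      ∀ {T : Type u} [CommRing T] [Algebra R T] (a b : S →ₐ[R] T), G.g a b * V.map (mp p n a) = V.map (mp p n b) := by
  rcases Nat.eq_zero_or_pos n with rfl | hn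
  · haveI : ∀ T : Type u, Subsingleton (TruncatedWittVector p 0 T) := fun T =>
      ⟨fun x y => TruncatedWittVector.ext fun i => i.elim0⟩
    exact ⟨0, 0, 0, 0, Subsingleton.elim _ _, Subsingleton.elim _ _, Subsingleton.elim _ _,
      fun a b => Subsingleton.elim _ _⟩
  have hpS : IsNilpotent (p : S) := by simpa using hp.map (algebraMap R S)
  obtain ⟨k, V, Y, hVY, hV⟩ := exists_invariant_matrix G hn
  obtain ⟨q, Ψ', X', hXΨ, hΨ'⟩ := exists_invariant_matrix G.dual hn
  let Ψ : Matrix (Fin q) ι (TruncatedWittVector p n S) := Ψ'ᵀ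
  let e := G.proj
  have hee : e * e = e := G.cocycle _ _ _
  have heV : e * V = V := by
    have := hV (AlgHom.id R S) (AlgHom.id R S)
    rwa [show V.map (mp p n (AlgHom.id R S)) = V from Matrix.ext fun i j => mp_id (R := R) _] at this
  have hΨ : ∀ {T : Type u} [CommRing T] [Algebra R T] (a b : S →ₐ[R] T),
      Ψ.map (mp p n b) * G.g a b = Ψ.map (mp p n a) := fun a b => by
    apply Matrix.transpose_injective
    rw [Matrix.transpose_mul, Matrix.transpose_map, Matrix.transpose_map]
    exact hΨ' b a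
  have hΨe : Ψ * e = Ψ := by
    have := hΨ (AlgHom.id R S) (AlgHom.id R S)
    rwa [show Ψ.map (mp p n (AlgHom.id R S)) = Ψ from Matrix.ext fun i j => mp_id (R := R) _] at this
  have hXΨ' : X'ᵀ * Ψ.map (ghost hn) = e.map (ghost hn) := by
    apply Matrix.transpose_injective
    rw [Matrix.transpose_mul, Matrix.transpose_transpose, Matrix.transpose_map]
    simpa [Ψ, e, WGlue.proj, WGlue.dual, Matrix.transpose_map] using hXΨ
  obtain ⟨A, hA⟩ := exists_descend (R := R) (Ψ * V) (fun {T} _ _ a b => by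
    rw [Matrix.map_mul, Matrix.map_mul, ← hV a b, ← Matrix.mul_assoc, hΨ])
  let γ := ghost (p := p) (n := n) (T := S) hn
  have hA₀ : (A.map (ghost hn)).map (algebraMap R S) = Ψ.map γ * V.map γ := by
    rw [← Matrix.map_mul, ← hA, Matrix.map_map, Matrix.map_map]
    exact Matrix.ext fun i j => (ghost_map (algebraMap R S) hn (A i j)).symm
  obtain ⟨B, hB⟩ := exists_quasiInverse (A.map (ghost hn)) (Y * X'ᵀ) (by
    rw [hA₀]
    have h1 : V.map γ * (Y * X'ᵀ) * Ψ.map γ = e.map γ := by
      rw [← Matrix.mul_assoc, hVY, Matrix.mul_assoc, hXΨ', ← Matrix.map_mul, hee]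
    calc Ψ.map γ * V.map γ * (Y * X'ᵀ) * (Ψ.map γ * V.map γ)
        = Ψ.map γ * (V.map γ * (Y * X'ᵀ) * Ψ.map γ) * V.map γ := by simp only [Matrix.mul_assoc]
      _ = Ψ.map γ * e.map γ * V.map γ := by rw [h1]
      _ = Ψ.map γ * V.map γ := by rw [← Matrix.map_mul, hΨe])
  let B' : Matrix (Fin k) (Fin q) (TruncatedWittVector p n R) := B.map (single 0)
  have hB' : (B'.map (WittGrp.truncMap p n (algebraMap R S))).map γ = B.map (algebraMap R S) :=
    Matrix.ext fun i j => (ghost_map (algebraMap R S) hn _).trans (congrArg (algebraMap R S)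
      ((ghost_zero_eq hn _).trans (lay_single hn _)))
  let BS := B'.map (WittGrp.truncMap p n (algebraMap R S))
  obtain ⟨U, hUdef⟩ : ∃ U : Matrix (Fin k) ι (TruncatedWittVector p n S), U = BS * Ψ := ⟨_, rfl⟩
  have hBS : ∀ {T : Type u} [CommRing T] [Algebra R T] (a : S →ₐ[R] T),
      BS.map (mp p n a) = B'.map (WittGrp.truncMap p n (algebraMap R T)) := fun a =>
    Matrix.ext fun i j => by
      have := RingHom.congr_fun (WittGrp.truncMap_comp p n (algebraMap R S) a.toRingHom) (B' i j)
      rw [show a.toRingHom.comp (algebraMap R S) = algebraMap R _ from a.comp_algebraMap] at this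
      exact this.symm
  have hU : ∀ {T : Type u} [CommRing T] [Algebra R T] (a b : S →ₐ[R] T),
      U.map (mp p n b) * G.g a b = U.map (mp p n a) := fun a b => by
    rw [hUdef, Matrix.map_mul, Matrix.map_mul, Matrix.mul_assoc, hΨ, hBS, hBS]
  have hUe : U * e = U := by rw [hUdef, Matrix.mul_assoc, hΨe]
  let Z := V * U
  have heZ : e * Z = Z := by rw [← Matrix.mul_assoc, heV]
  have hZe : Z * e = Z := by rw [Matrix.mul_assoc, hUe]
  have hZγ : Z.map γ = e.map γ := by
    have hAB : (Ψ.map γ * V.map γ) * B.map (algebraMap R S) * (Ψ.map γ * V.map γ) = Ψ.map γ * V.map γ := by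
      rw [← hA₀, ← Matrix.map_mul, ← Matrix.map_mul, hB]
    have hex : e.map γ = X'ᵀ * Ψ.map γ := hXΨ'.symm
    have hev : e.map γ = V.map γ * Y := hVY.symm
    have h2 : e.map γ * (V.map γ * B.map (algebraMap R S) * Ψ.map γ) * e.map γ =
        e.map γ * e.map γ := by
      conv_lhs => rw [hex]; arg 2; rw [← hex, hev]
      conv_rhs => arg 1; rw [hex]
      conv_rhs => arg 2; rw [hev]
      calc X'ᵀ * Ψ.map γ * (V.map γ * B.map (algebraMap R S) * Ψ.map γ) * (V.map γ * Y)
          = X'ᵀ * ((Ψ.map γ * V.map γ) * B.map (algebraMap R S) * (Ψ.map γ * V.map γ)) * Y := by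
            simp only [Matrix.mul_assoc]
        _ = X'ᵀ * Ψ.map γ * (V.map γ * Y) := by rw [hAB]; simp only [Matrix.mul_assoc]
    have h3 : V.map γ * B.map (algebraMap R S) * Ψ.map γ = Z.map γ := by
      show _ = (V * U).map γ
      rw [hUdef, Matrix.map_mul, Matrix.map_mul, hB', Matrix.mul_assoc]
    rw [h3, ← Matrix.map_mul, heZ, ← Matrix.map_mul, hZe, ← Matrix.map_mul, hee] at h2
    exact h2
  let K := 1 - (e - Z)
  obtain ⟨u, hu⟩ := isUnit_one_sub hpS hn (e - Z) (Matrix.ext fun i j => by
    simp only [Matrix.map_apply, Matrix.sub_apply, map_sub, Matrix.zero_apply]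
    rw [sub_eq_zero]
    exact (congrFun (congrFun hZγ i) j).symm)
  have heK : e * (u : Matrix ι ι (TruncatedWittVector p n S)) = Z := by
    rw [hu, Matrix.mul_sub, Matrix.mul_sub, Matrix.mul_one, hee, heZ]; abel
  have hKe : (u : Matrix ι ι (TruncatedWittVector p n S)) * e = Z := by
    rw [hu, Matrix.sub_mul, Matrix.sub_mul, Matrix.one_mul, hee, hZe]; abel
  let Ki : Matrix ι ι (TruncatedWittVector p n S) := ↑u⁻¹
  obtain ⟨U', hU'def⟩ : ∃ U' : Matrix (Fin k) ι (TruncatedWittVector p n S), U' = U * Ki := ⟨_, rfl⟩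
  have heKi : e * Ki = Ki * e := by
    calc e * Ki = Ki * (↑u * e) * Ki := by rw [← Matrix.mul_assoc Ki, show Ki * ↑u = 1 from u.inv_mul, Matrix.one_mul]
      _ = Ki * (e * ↑u) * Ki := by rw [hKe, heK]
      _ = Ki * e := by rw [Matrix.mul_assoc Ki, Matrix.mul_assoc e, show ↑u * Ki = 1 from u.mul_inv, Matrix.mul_one]
  have hVU : V * U' = e := by
    rw [hU'def]
    show V * (U * Ki) = e
    rw [← Matrix.mul_assoc]
    show Z * Ki = e
    rw [← heK, Matrix.mul_assoc, show ↑u * Ki = 1 from u.mul_inv, Matrix.mul_one]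
  have hU'e : U' * e = U' := by rw [hU'def, Matrix.mul_assoc, ← heKi, ← Matrix.mul_assoc, hUe]
  have hU' : ∀ {T : Type u} [CommRing T] [Algebra R T] (a b : S →ₐ[R] T),
      U'.map (mp p n b) * G.g a b = U'.map (mp p n a) := fun {T} _ _ a b => by
    have hga : G.g a b * G.g a a = G.g a b := G.cocycle _ _ _
    have hgb : G.g b b * G.g a b = G.g a b := G.cocycle _ _ _
    have hK : (u : Matrix ι ι _).map (mp p n b) * G.g a b = G.g a b * (u : Matrix ι ι _).map (mp p n a) := by
      rw [hu]
      simp only [Matrix.map_sub _ (fun x y => map_sub (mp p n a) x y), Matrix.map_sub _ (fun x y => map_sub (mp p n b) x y),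
        Matrix.map_one _ (map_zero _) (map_one _), G.map_proj, e]
      rw [Matrix.sub_mul, Matrix.sub_mul, Matrix.mul_sub, Matrix.mul_sub, hga, hgb, Matrix.one_mul, Matrix.mul_one]
      congr 2
      show (V * U).map _ * _ = _ * (V * U).map _
      rw [Matrix.map_mul, Matrix.map_mul, Matrix.mul_assoc, hU a b, ← Matrix.mul_assoc, hV a b]
    have hia : (u : Matrix ι ι _).map (mp p n a) * Ki.map (mp p n a) = 1 := by
      rw [← Matrix.map_mul, show ↑u * Ki = 1 from u.mul_inv, Matrix.map_one _ (map_zero _) (map_one _)]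
    have hib : Ki.map (mp p n b) * (u : Matrix ι ι _).map (mp p n b) = 1 := by
      rw [← Matrix.map_mul, show Ki * ↑u = 1 from u.inv_mul, Matrix.map_one _ (map_zero _) (map_one _)]
    have hKi : Ki.map (mp p n b) * G.g a b = G.g a b * Ki.map (mp p n a) := by
      calc Ki.map (mp p n b) * G.g a b
          = Ki.map (mp p n b) * (G.g a b * (u : Matrix ι ι _).map (mp p n a)) * Ki.map (mp p n a) := by
            rw [Matrix.mul_assoc, Matrix.mul_assoc (G.g a b), hia, Matrix.mul_one]
        _ = G.g a b * Ki.map (mp p n a) := by rw [← hK, ← Matrix.mul_assoc, hib, Matrix.one_mul]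
    rw [hU'def, Matrix.map_mul, Matrix.map_mul, Matrix.mul_assoc, hKi, ← Matrix.mul_assoc, hU]
  obtain ⟨E, hE⟩ := exists_descend (R := R) (U' * V) (fun {T} _ _ a b => by
    rw [Matrix.map_mul, Matrix.map_mul, ← hV a b, ← Matrix.mul_assoc, hU'])
  refine ⟨k, E, V, U', ?_, hE.symm, hVU, hV⟩
  have hEE : (E * E).map (WittGrp.truncMap p n (algebraMap R S)) = E.map (WittGrp.truncMap p n (algebraMap R S)) := by
    rw [Matrix.map_mul, hE]
    calc U' * V * (U' * V) = U' * (V * U') * V := by simp only [Matrix.mul_assoc]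
      _ = U' * V := by rw [hVU, hU'e]
  refine Matrix.ext fun i j => TruncatedWittVector.ext fun l =>
    FaithfulSMul.algebraMap_injective R S ?_
  simpa using congrArg (TruncatedWittVector.coeff l) (congrFun (congrFun hEE i) j)

end Groth.Agent.MatDesc
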