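import Groth.Agent.RingDesc.WEff
import Groth.Agent.RingDesc.WittMat

/-!
# Effective descent of finite projective modules over truncated Witt vectors
-/

set_option autoImplicit false
set_option backward.isDefEq.respectTransparency false
set_option backward.isDefEq.respectTransparency.types false

universe u

open CategoryTheory Opposite TensorProduct Matrix

namespace Groth.Agent.RingDesc

open W4c3truncdispsmooth Groth.Agent.MatDesc

theorem transfer_iso {R₀ S₀ : CommRingCat.{u}} (f : R₀ ⟶ S₀)
    {P Q : Pseudofunctor (LocallyDiscrete (CommRingCat.{u}ᵒᵖ)ᵒᵖ) Cat.{u, u + 1}} (e : P = Q)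
    (M : P.obj (.mk (op (op R₀)))) (M' : Q.obj (.mk (op (op R₀)))) (hM : HEq M M')
    (D : P.DescentData (fun _ : PUnit.{u + 1} => f.op)) (D' : Q.DescentData (fun _ : PUnit.{u + 1} => f.op))
    (hD : HEq D D') (h : Nonempty ((P.toDescentData (fun _ : PUnit.{u + 1} => f.op)).obj M ≅ D)) :
    Nonempty ((Q.toDescentData (fun _ : PUnit.{u + 1} => f.op)).obj M' ≅ D') := by
  subst e; cases eq_of_heq hM; cases eq_of_heq hD; exact h

variable {p : ℕ} [Fact p.Prime] {n : ℕ} {R S : Type u} [CommRing R] [CommRing S] [Algebra R S]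

/-- The structure morphism. -/
abbrev structMap (R S : Type u) [CommRing R] [CommRing S] [Algebra R S] : CommRingCat.of R ⟶ CommRingCat.of S :=
  CommRingCat.ofHom (algebraMap R S)

theorem structMap_comp {T : Type u} [CommRing T] [Algebra R T] (a : S →ₐ[R] T) :
    structMap R S ≫ CommRingCat.ofHom a.toRingHom = CommRingCat.ofHom (algebraMap R T) :=
  CommRingCat.hom_ext a.comp_algebraMap

variable (D : (wpf (wittTrunc.{u} p n)).DescentData (fun _ : PUnit.{u + 1} => (structMap R S).op))
  {r : ℕ} (l : Fin r → (wobj (structMap R S) D →ₗ[(wittTrunc p n).obj (CommRingCat.of S)] (wittTrunc p n).obj (CommRingCat.of S)))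
  (el : Fin r → wobj (structMap R S) D)

/-- The Witt matrix family of a descent datum. -/
noncomputable def wglue (hle : ∀ z, ∑ j, l j z • el j = z) : WGlue p n R S (Fin r) where
  g {T} _ _ a b := gmat (structMap R S) D l el (CommRingCat.ofHom (algebraMap R T)) (CommRingCat.ofHom a.toRingHom)
    (CommRingCat.ofHom b.toRingHom) (structMap_comp a) (structMap_comp b)
  natural {T T'} _ _ _ _ h a b :=
    gmat_natural (structMap R S) D l el hle _ _ _ _ _ (CommRingCat.ofHom h.toRingHom) _
      (CommRingCat.hom_ext h.comp_algebraMap) _ _ rfl rfl _ _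
  cocycle a b c := gmat_cocycle (structMap R S) D l el hle _ _ _ _ _ _ _

theorem witt_effective_wpf [Module.FaithfullyFlat R S] (hp : IsNilpotent (p : R))
    [Module.Finite ((wittTrunc p n).obj (CommRingCat.of S)) (wobj (structMap R S) D)]
    [Module.Projective ((wittTrunc p n).obj (CommRingCat.of S)) (wobj (structMap R S) D)] :
    ∃ M : ModuleCat.{u} ((wittTrunc p n).obj (CommRingCat.of R)),
      Module.Finite ((wittTrunc p n).obj (CommRingCat.of R)) M ∧
      Module.Projective ((wittTrunc p n).obj (CommRingCat.of R)) M ∧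
      Nonempty ((wToDD (wittTrunc p n) (structMap R S)).obj M ≅ D) := by
  obtain ⟨r, l, el, hle⟩ := exists_coords (wobj (structMap R S) D)
  obtain ⟨k, E, V, U, hEE, hUV, hVU, hV⟩ := exists_idempotent hp (wglue D l el hle)
  have hproj : (wglue D l el hle).proj = Matrix.of fun i j => l i (el j) := by
    refine Matrix.ext fun i j => ?_
    refine (gmat_self (structMap R S) D l el _ _ (structMap_comp (AlgHom.id R S)) i j).trans ?_
    exact RingHom.congr_fun (WittGrp.truncMap_id p n) (l i (el j))
  refine effective_of_matrices (structMap R S) D l el hle E V U hEE hUV (hVU.trans hproj) ?_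
  intro T q a b ha hb
  letI : Algebra R T := q.hom.toAlgebra
  let a' : S →ₐ[R] T := { a.hom with commutes' := fun x => congrArg (fun F : CommRingCat.of R ⟶ T => F.hom x) ha }
  let b' : S →ₐ[R] T := { b.hom with commutes' := fun x => congrArg (fun F : CommRingCat.of R ⟶ T => F.hom x) hb }
  exact hV (T := T) a' b'

theorem witt_effective [Module.FaithfullyFlat R S] (hp : IsNilpotent (p : R))
    (D' : (wittModPF.{u} p n).DescentData (fun _ : PUnit.{u + 1} => (structMap R S).op))
    [Module.Finite (TruncatedWittVector p n S) (descObj D')]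
    [Module.Projective (TruncatedWittVector p n S) (descObj D')] :
    ∃ M : ModuleCat.{u} (TruncatedWittVector p n R),
      Module.Finite (TruncatedWittVector p n R) M ∧ Module.Projective (TruncatedWittVector p n R) M ∧
        Nonempty (((wittModPF.{u} p n).toDescentData (fun _ : PUnit.{u + 1} => (structMap R S).op)).obj M ≅ D') := by
  obtain ⟨M, hf, hpr, h⟩ := @witt_effective_wpf p _ n R S _ _ _ D' _ hp ‹Module.Finite (TruncatedWittVector p n S) _›
    ‹Module.Projective (TruncatedWittVector p n S) _›
  exact ⟨M, hf, hpr, transfer_iso (structMap R S) (P := wpf (wittTrunc.{u} p n)) (Q := wittModPF.{u} p n) rfl M M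
    HEq.rfl D' D' HEq.rfl h⟩

end Groth.Agent.RingDesc
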