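import Groth.Prelude.Def_WittGrp
import Mathlib.RingTheory.WittVector.Domain
import Mathlib.RingTheory.WittVector.InitTail

/-!
# The Verschiebung filtration of truncated Witt vectors
-/

set_option autoImplicit false

universe u

open WittVector Function

namespace Groth.Agent.WittLayer

variable {p : ℕ} [Fact p.Prime] {n : ℕ} {T T' : Type u} [CommRing T] [CommRing T']

local notation "tr" => WittVector.truncate (p := p) n

/-- All coefficients below `k` vanish. -/
def Low (k : ℕ) (x : TruncatedWittVector p n T) : Prop := ∀ i : Fin n, (i : ℕ) < k → x.coeff i = 0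

theorem low_iff (k : ℕ) (x : TruncatedWittVector p n T) :
    Low k x ↔ ∃ Y : WittVector p T, x = tr ((⇑verschiebung)^[k] Y) := by
  constructor
  · intro h
    refine ⟨x.out.shift k, ?_⟩
    have h' : ∀ i < k, x.out.coeff i = 0 := fun i hi => by
      by_cases hin : i < n
      · exact (TruncatedWittVector.coeff_out x ⟨i, hin⟩).trans (h ⟨i, hin⟩ hi)
      · simp [TruncatedWittVector.out, WittVector.coeff, hin]
    rw [← eq_iterate_verschiebung h']
    exact (TruncatedWittVector.truncateFun_out x).symm
  · rintro ⟨Y, rfl⟩ i hi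
    rw [coeff_truncate]
    exact iterate_verschiebung_coeff_eq_zero Y hi

/-- The coefficient at level `k`. -/
def lay {k : ℕ} (hk : k < n) (x : TruncatedWittVector p n T) : T := x.coeff ⟨k, hk⟩

theorem lay_tr {k : ℕ} (hk : k < n) (Y : WittVector p T) : lay hk (tr ((⇑verschiebung)^[k] Y)) = Y.coeff 0 := by
  rw [lay, coeff_truncate]
  simpa using iterate_verschiebung_coeff Y k 0

theorem low_zero (k : ℕ) : Low k (0 : TruncatedWittVector p n T) := fun i _ => TruncatedWittVector.coeff_zero p n T i

theorem low_zero' (x : TruncatedWittVector p n T) : Low 0 x := fun i hi => absurd hi (Nat.not_lt_zero _)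

theorem eq_zero_of_low {x : TruncatedWittVector p n T} (h : Low n x) : x = 0 :=
  TruncatedWittVector.ext fun i => (h i i.2).trans (TruncatedWittVector.coeff_zero p n T i).symm

theorem iter_add (k : ℕ) (X Y : WittVector p T) :
    (⇑verschiebung)^[k] (X + Y) = (⇑verschiebung)^[k] X + (⇑verschiebung)^[k] Y :=
  iterate_map_add verschiebung k X Y

theorem low_add {k : ℕ} {x y : TruncatedWittVector p n T} (hx : Low k x) (hy : Low k y) : Low k (x + y) := by
  obtain ⟨X, rfl⟩ := (low_iff k x).1 hx
  obtain ⟨Y, rfl⟩ := (low_iff k y).1 hy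
  exact (low_iff k _).2 ⟨X + Y, by rw [iter_add, map_add]⟩

theorem low_mul {k : ℕ} {y : TruncatedWittVector p n T} (w : TruncatedWittVector p n T) (hy : Low k y) :
    Low k (w * y) := by
  obtain ⟨W, rfl⟩ := WittVector.truncate_surjective p n T w
  obtain ⟨Y, rfl⟩ := (low_iff k y).1 hy
  exact (low_iff k _).2 ⟨Y * (⇑WittVector.frobenius)^[k] W, by rw [← iterate_verschiebung_mul_left, ← map_mul, mul_comm]⟩

theorem low_neg {k : ℕ} {x : TruncatedWittVector p n T} (hx : Low k x) : Low k (-x) := by
  simpa using low_mul (-1) hx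

theorem low_sub {k : ℕ} {x y : TruncatedWittVector p n T} (hx : Low k x) (hy : Low k y) : Low k (x - y) := by
  rw [sub_eq_add_neg]; exact low_add hx (low_neg hy)

/-- The ideal of level `k`. -/
def ideal (k : ℕ) : Ideal (TruncatedWittVector p n T) where
  carrier := {x | Low k x}
  add_mem' := low_add
  zero_mem' := low_zero k
  smul_mem' := fun w _ hy => low_mul w hy

theorem low_sum {k : ℕ} {ι : Type*} (s : Finset ι) (f : ι → TruncatedWittVector p n T) (h : ∀ i ∈ s, Low k (f i)) :
    Low k (∑ i ∈ s, f i) :=
  (ideal k).sum_mem h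

theorem low_succ {k : ℕ} (hk : k < n) {x : TruncatedWittVector p n T} (hx : Low k x) (h : lay hk x = 0) :
    Low (k + 1) x := fun i hi => by
  rcases Nat.lt_succ_iff_lt_or_eq.1 hi with hi | hi
  · exact hx i hi
  · obtain rfl : i = ⟨k, hk⟩ := Fin.ext hi
    exact h

theorem lay_add {k : ℕ} (hk : k < n) {x y : TruncatedWittVector p n T} (hx : Low k x) (hy : Low k y) :
    lay hk (x + y) = lay hk x + lay hk y := by
  obtain ⟨X, rfl⟩ := (low_iff k x).1 hx
  obtain ⟨Y, rfl⟩ := (low_iff k y).1 hy
  rw [← map_add, ← iter_add, lay_tr, lay_tr, lay_tr, WittVector.add_coeff_zero]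

theorem lay_zero {k : ℕ} (hk : k < n) : lay hk (0 : TruncatedWittVector p n T) = 0 :=
  TruncatedWittVector.coeff_zero p n T _

theorem lay_sub {k : ℕ} (hk : k < n) {x y : TruncatedWittVector p n T} (hx : Low k x) (hy : Low k y) :
    lay hk (x - y) = lay hk x - lay hk y := by
  rw [eq_sub_iff_add_eq, ← lay_add hk (low_sub hx hy) hy, sub_add_cancel]

theorem lay_sum {k : ℕ} (hk : k < n) {ι : Type*} (s : Finset ι) (f : ι → TruncatedWittVector p n T)
    (h : ∀ i ∈ s, Low k (f i)) : lay hk (∑ i ∈ s, f i) = ∑ i ∈ s, lay hk (f i) := by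
  classical
  induction s using Finset.induction_on with
  | empty => simpa using lay_zero hk
  | insert a s ha ih =>
    rw [Finset.sum_insert ha, Finset.sum_insert ha, lay_add hk (h a (Finset.mem_insert_self a s))
      (low_sum s f fun i hi => h i (Finset.mem_insert_of_mem hi)), ih fun i hi => h i (Finset.mem_insert_of_mem hi)]

theorem ghost_congr (k : ℕ) {X Y : WittVector p T} (h : ∀ i ≤ k, X.coeff i = Y.coeff i) :
    ghostComponent k X = ghostComponent k Y := by
  simp only [ghostComponent_apply, wittPolynomial_eq_sum_C_mul_X_pow, map_sum, map_mul, map_pow,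
    MvPolynomial.aeval_C, MvPolynomial.aeval_X]
  exact Finset.sum_congr rfl fun i hi => by rw [h i (Nat.lt_succ_iff.1 (Finset.mem_range.1 hi))]

theorem ghost_tr {k : ℕ} (hk : k < n) (X : WittVector p T) : ghostComponent k (tr X).out = ghostComponent k X :=
  ghost_congr k fun i hi => by
    have := TruncatedWittVector.coeff_out (tr X) ⟨i, hi.trans_lt hk⟩
    exact this.trans (coeff_truncate X ⟨i, hi.trans_lt hk⟩)

/-- The ghost component of level `k`. -/
noncomputable def ghost {k : ℕ} (hk : k < n) : TruncatedWittVector p n T →+* T where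
  toFun x := ghostComponent k x.out
  map_one' := by rw [← map_one (tr : _ →+* TruncatedWittVector p n T), ghost_tr hk, map_one]
  map_zero' := by rw [← map_zero (tr : _ →+* TruncatedWittVector p n T), ghost_tr hk, map_zero]
  map_mul' x y := by
    obtain ⟨X, rfl⟩ := WittVector.truncate_surjective p n T x
    obtain ⟨Y, rfl⟩ := WittVector.truncate_surjective p n T y
    rw [← map_mul, ghost_tr hk, ghost_tr hk, ghost_tr hk, map_mul]
  map_add' x y := by
    obtain ⟨X, rfl⟩ := WittVector.truncate_surjective p n T x
    obtain ⟨Y, rfl⟩ := WittVector.truncate_surjective p n T y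
    rw [← map_add, ghost_tr hk, ghost_tr hk, ghost_tr hk, map_add]

theorem ghost_truncate {k : ℕ} (hk : k < n) (X : WittVector p T) : ghost hk (tr X) = ghostComponent k X :=
  ghost_tr hk X

theorem ghost_iter_frobenius (k j : ℕ) (X : WittVector p T) :
    ghostComponent j ((⇑WittVector.frobenius)^[k] X) = ghostComponent (j + k) X := by
  induction k generalizing X with
  | zero => rfl
  | succ k ih => rw [iterate_succ_apply, ih, ghostComponent_frobenius]; rfl

theorem ghostComponent_zero (X : WittVector p T) : ghostComponent 0 X = X.coeff 0 := by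
  simp [ghostComponent_apply, wittPolynomial_zero]

theorem lay_mul {k : ℕ} (hk : k < n) (w : TruncatedWittVector p n T) {y : TruncatedWittVector p n T} (hy : Low k y) :
    lay hk (w * y) = ghost hk w * lay hk y := by
  obtain ⟨W, rfl⟩ := WittVector.truncate_surjective p n T w
  obtain ⟨Y, rfl⟩ := (low_iff k y).1 hy
  rw [← map_mul, mul_comm W, iterate_verschiebung_mul_left, lay_tr, lay_tr, WittVector.mul_coeff_zero,
    ghost_truncate, ← ghostComponent_zero ((⇑WittVector.frobenius)^[k] W), ghost_iter_frobenius, zero_add, mul_comm]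

/-- The vector with `t` at level `k`. -/
def single (k : ℕ) (t : T) : TruncatedWittVector p n T :=
  TruncatedWittVector.mk p fun i => if (i : ℕ) = k then t else 0

theorem low_single (k : ℕ) (t : T) : Low k (single k t : TruncatedWittVector p n T) := fun i hi => by
  rw [single, TruncatedWittVector.coeff_mk, if_neg hi.ne]

theorem lay_single {k : ℕ} (hk : k < n) (t : T) : lay hk (single k t : TruncatedWittVector p n T) = t := by
  rw [lay, single, TruncatedWittVector.coeff_mk, if_pos rfl]

theorem map_single (f : T →+* T') (k : ℕ) (t : T) :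
    WittGrp.truncMap p n f (single k t) = single k (f t) :=
  TruncatedWittVector.ext fun i => by
    simp only [WittGrp.coeff_truncMap, single, TruncatedWittVector.coeff_mk]
    split <;> simp

theorem low_map (f : T →+* T') {k : ℕ} {x : TruncatedWittVector p n T} (hx : Low k x) :
    Low k (WittGrp.truncMap p n f x) := fun i hi => by
  rw [WittGrp.coeff_truncMap, hx i hi, map_zero]

theorem lay_map (f : T →+* T') {k : ℕ} (hk : k < n) (x : TruncatedWittVector p n T) :
    lay hk (WittGrp.truncMap p n f x) = f (lay hk x) :=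
  WittGrp.coeff_truncMap _ _ _ _ _

theorem ghost_map (f : T →+* T') {k : ℕ} (hk : k < n) (x : TruncatedWittVector p n T) :
    ghost hk (WittGrp.truncMap p n f x) = f (ghost hk x) := by
  obtain ⟨X, rfl⟩ := WittVector.truncate_surjective p n T x
  rw [WittGrp.truncMap_truncate, ghost_truncate, ghost_truncate]
  simp only [ghostComponent_apply, MvPolynomial.aeval_def, algebraMap_int_eq]
  rw [MvPolynomial.eval₂_comp_left f]
  exact congrArg₂ (fun a b => MvPolynomial.eval₂ a b _) (RingHom.ext_int _ _) (funext fun i => (map_coeff f X i).symm) |>.symm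

theorem ghost_zero_eq (h : 0 < n) (x : TruncatedWittVector p n T) : ghost h x = x.coeff ⟨0, h⟩ := by
  show ghostComponent 0 x.out = _
  rw [ghostComponent_zero]
  exact TruncatedWittVector.coeff_out x ⟨0, h⟩

theorem low_one_iff (h : 0 < n) (x : TruncatedWittVector p n T) : Low 1 x ↔ ghost h x = 0 := by
  rw [ghost_zero_eq]
  refine ⟨fun hx => hx ⟨0, h⟩ Nat.one_pos, fun hx i hi => ?_⟩
  obtain rfl : i = ⟨0, h⟩ := Fin.ext (Nat.lt_one_iff.1 hi)
  exact hx

theorem isNilpotent_p (hp : IsNilpotent (p : T)) : IsNilpotent (p : TruncatedWittVector p n T) := by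
  obtain ⟨m, hm⟩ := hp
  refine ⟨m * n, ?_⟩
  have key : ∀ j, j ≤ n → Low j ((p : TruncatedWittVector p n T) ^ (m * j)) := by
    intro j
    induction j with
    | zero => exact fun _ => low_zero' _
    | succ j ih =>
      intro hj
      have hjn : j < n := hj
      rw [Nat.mul_succ, pow_add, mul_comm]
      refine low_succ hjn (low_mul _ (ih hjn.le)) ?_
      rw [lay_mul hjn _ (ih hjn.le), map_pow, map_natCast, hm, zero_mul]
  exact eq_zero_of_low (key n le_rfl)

theorem isNilpotent_of_low_one (hp : IsNilpotent (p : T)) {x : TruncatedWittVector p n T} (hx : Low 1 x) :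
    IsNilpotent x := by
  obtain ⟨Y, rfl⟩ := (low_iff 1 x).1 hx
  refine IsNilpotent.of_pow (m := 2) ?_
  rw [Function.iterate_one, pow_two, ← map_mul, ← verschiebung_mul_frobenius, frobenius_verschiebung, ← mul_assoc,
    mul_comm _ (p : WittVector p T), ← nsmul_eq_mul, map_nsmul, map_nsmul, nsmul_eq_mul]
  exact (Commute.all _ _).isNilpotent_mul_right (isNilpotent_p hp)

end Groth.Agent.WittLayer
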